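import Mathlib
import Cfsg.Prelude.Def_CaseTheorems

/-!
Elementary facts used for groups of `p`-rank at most 2: unique square roots in odd `p`-groups, fixed
points of `p`-groups acting on sets by conjugation, the `p`-th power map in class 2, and the fact that an
odd `p`-group with at most `p` solutions of `x ^ p = 1` is cyclic.
-/

set_option autoImplicit false

namespace Cfsg.Agent.RankTwo

variable {G : Type*} [Group G] {p : ℕ}

theorem sq_inj (hp : p.Prime) (hp2 : p ≠ 2) {W : Subgroup G} (hW : IsPGroup p W) {a b : G}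
    (ha : a ∈ W) (hb : b ∈ W) (h : a ^ 2 = b ^ 2) : a = b := by
  have hc : p.Coprime 2 := (Nat.coprime_primes hp Nat.prime_two).mpr hp2
  exact congrArg Subtype.val ((hW.powEquiv hc).injective
    (Subtype.ext (by simpa using h) : hW.powEquiv hc ⟨a, ha⟩ = hW.powEquiv hc ⟨b, hb⟩))

theorem exists_sq_eq (hp : p.Prime) (hp2 : p ≠ 2) {W : Subgroup G} (hW : IsPGroup p W) {a : G}
    (ha : a ∈ W) : ∃ v ∈ W, v ^ 2 = a := by
  have hc : p.Coprime 2 := (Nat.coprime_primes hp Nat.prime_two).mpr hp2
  obtain ⟨v, hv⟩ := (hW.powEquiv hc).surjective ⟨a, ha⟩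
  exact ⟨v, v.2, by simpa using congrArg Subtype.val hv⟩

theorem eq_one_of_sq (hp : p.Prime) (hp2 : p ≠ 2) {W : Subgroup G} (hW : IsPGroup p W) {a : G}
    (ha : a ∈ W) (h : a ^ 2 = 1) : a = 1 :=
  sq_inj hp hp2 hW ha W.one_mem (by simpa using h)

theorem eq_one_of_eq_inv (hp : p.Prime) (hp2 : p ≠ 2) {W : Subgroup G} (hW : IsPGroup p W) {a : G}
    (ha : a ∈ W) (h : a = a⁻¹) : a = 1 :=
  eq_one_of_sq hp hp2 hW ha (by rw [pow_two]; exact mul_eq_one_iff_eq_inv.mpr h)

/-- An element conjugated to its inverse by `t` has its square root conjugated to its inverse by `t`. -/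
theorem exists_sq_inverted (hp : p.Prime) (hp2 : p ≠ 2) {W : Subgroup G} (hW : IsPGroup p W) {t : G}
    (ht : ∀ w ∈ W, t * w * t⁻¹ ∈ W) {a : G} (ha : a ∈ W) (hinv : t * a * t⁻¹ = a⁻¹) :
    ∃ v ∈ W, v ^ 2 = a ∧ t * v * t⁻¹ = v⁻¹ := by
  obtain ⟨v, hv, hv2⟩ := exists_sq_eq hp hp2 hW ha
  refine ⟨v, hv, hv2, sq_inj hp hp2 hW (ht v hv) (W.inv_mem hv) ?_⟩
  rw [conj_pow, hv2, inv_pow, hv2, hinv]

/-- A `p`-subgroup permuting by conjugation a finite set containing `1` whose size is divisible by `p`
centralises some other element of the set. -/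
theorem exists_conj_fixed [Finite G] [Fact p.Prime] (P : Subgroup G) (hP : IsPGroup p P) (S : Set G)
    (hS : ∀ u ∈ P, ∀ c ∈ S, u * c * u⁻¹ ∈ S) (h1 : (1 : G) ∈ S) (hdvd : p ∣ Nat.card S) :
    ∃ c ∈ S, c ≠ 1 ∧ ∀ u ∈ P, u * c * u⁻¹ = c := by
  let act : MulAction P S :=
    { smul := fun u c => ⟨(u : G) * c * (u : G)⁻¹, hS u u.2 c c.2⟩
      one_smul := fun c => by
        apply Subtype.ext
        show ((1 : P) : G) * c * ((1 : P) : G)⁻¹ = c
        simp
      mul_smul := fun u v c => by
        apply Subtype.ext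
        show ((u * v : P) : G) * c * ((u * v : P) : G)⁻¹ = (u : G) * ((v : G) * c * (v : G)⁻¹) * (u : G)⁻¹
        simp [mul_assoc] }
  have hfix : (⟨1, h1⟩ : S) ∈ MulAction.fixedPoints P S := fun u => by
    apply Subtype.ext
    show (u : G) * 1 * (u : G)⁻¹ = 1
    simp
  obtain ⟨b, hb, hne⟩ := hP.exists_fixed_point_of_prime_dvd_card_of_fixed_point S hdvd hfix
  refine ⟨b, b.2, ?_, fun u hu => congrArg Subtype.val (hb ⟨u, hu⟩)⟩
  intro h
  exact hne (Subtype.ext h.symm)

/-- A `p`-subgroup normalising a subgroup of order `p` centralises it. -/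
theorem commute_of_card_eq_prime [Finite G] [Fact p.Prime] (P : Subgroup G) (hP : IsPGroup p P)
    (Z : Subgroup G) (hZ : Nat.card Z = p) (hn : ∀ u ∈ P, ∀ c ∈ Z, u * c * u⁻¹ ∈ Z) {u z : G}
    (hu : u ∈ P) (hz : z ∈ Z) : u * z * u⁻¹ = z := by
  obtain ⟨c, hc, hc1, hfix⟩ := exists_conj_fixed P hP (Z : Set G) hn Z.one_mem
    (by simp [hZ])
  have hne : (⟨c, hc⟩ : Z) ≠ 1 := fun h => hc1 (congrArg Subtype.val h)
  obtain ⟨k, hk⟩ := mem_zpowers_of_prime_card hZ hne (g' := ⟨z, hz⟩)
  have hk' : c ^ k = z := by simpa using congrArg Subtype.val hk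
  rw [← hk', ← conj_zpow, hfix u hu]

theorem card_mul_prime_le_of_lt [Finite G] [Fact p.Prime] {H K : Subgroup G} (hK : IsPGroup p K)
    (h : H < K) : Nat.card H * p ≤ Nat.card K := by
  obtain ⟨a, ha⟩ := IsPGroup.iff_card.mp (hK.to_le h.le)
  obtain ⟨b, hb⟩ := IsPGroup.iff_card.mp hK
  have hlt : Nat.card H < Nat.card K := by
    refine lt_of_le_of_ne (Subgroup.card_le_of_le h.le) fun he => h.ne ?_
    exact Subgroup.eq_of_le_of_card_ge h.le (le_of_eq he.symm)
  have hp1 := (Fact.out : p.Prime).one_lt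
  have : a < b := by
    rw [ha, hb] at hlt
    exact (Nat.pow_lt_pow_iff_right hp1).mp hlt
  rw [ha, hb, ← pow_succ]
  exact Nat.pow_le_pow_right (Fact.out : p.Prime).pos this

/-- In a group of `p`-rank at most 2, two commuting independent elements of order `p` span every element
of order `p` commuting with both. -/
theorem mem_closure_of_rank_two [Finite G] [Fact p.Prime] (hr : Cfsg.PRankLE p 2 G) {a b c : G}
    (ha : a ^ p = 1) (hb : b ^ p = 1) (hc : c ^ p = 1) (hab : Commute a b) (hac : Commute a c)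
    (hbc : Commute b c) (ha1 : a ≠ 1) (hb1 : b ∉ Subgroup.zpowers a) :
    c ∈ Subgroup.closure {a, b} := by
  by_contra hcn
  set A : Subgroup G := Subgroup.closure {a, b, c} with hA
  have hcomm : IsMulCommutative A := by
    apply Subgroup.isMulCommutative_closure
    intro x hx y hy
    simp only [Set.mem_insert_iff, Set.mem_singleton_iff] at hx hy
    rcases hx with rfl | rfl | rfl <;> rcases hy with rfl | rfl | rfl
    exacts [rfl, hab, hac, hab.symm, rfl, hbc, hac.symm, hbc.symm, rfl]
  have hexp : ∀ x ∈ A, x ^ p = 1 := by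
    intro x hx
    induction hx using Subgroup.closure_induction with
    | mem y hy =>
      simp only [Set.mem_insert_iff, Set.mem_singleton_iff] at hy
      rcases hy with rfl | rfl | rfl <;> assumption
    | one => simp
    | mul y z hy hz ihy ihz =>
      have : Commute y z := congrArg Subtype.val (hcomm.is_comm.comm (⟨y, hy⟩ : A) ⟨z, hz⟩)
      rw [this.mul_pow, ihy, ihz, one_mul]
    | inv y _ ih => rw [inv_pow, ih, inv_one]
  have hApg : IsPGroup p A := fun x => ⟨1, Subtype.ext (by simpa using hexp x x.2)⟩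
  have h1 : Subgroup.zpowers a < Subgroup.closure {a, b} := by
    refine lt_of_le_of_ne (by simpa using Subgroup.subset_closure (Set.mem_insert a {b})) fun he => hb1 ?_
    rw [he]
    exact Subgroup.subset_closure (by simp)
  have h2 : Subgroup.closure {a, b} < A := by
    refine lt_of_le_of_ne (Subgroup.closure_mono (Set.insert_subset_insert
      (Set.singleton_subset_iff.mpr (Set.mem_insert b {c})))) fun he => hcn ?_
    rw [he]
    exact Subgroup.subset_closure (by simp)
  have hcard1 : Nat.card (Subgroup.zpowers a) = p := by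
    rw [Nat.card_zpowers]
    exact orderOf_eq_prime ha ha1
  have hc2 := card_mul_prime_le_of_lt (hApg.to_le h2.le) h1
  have hc3 := card_mul_prime_le_of_lt hApg h2
  have hbound := hr A hcomm hexp
  have hp1 := (Fact.out : p.Prime).one_lt
  rw [hcard1] at hc2
  have : p ^ 3 ≤ Nat.card A :=
    calc p ^ 3 = p * p * p := by ring
      _ ≤ Nat.card (Subgroup.closure ({a, b} : Set G)) * p := Nat.mul_le_mul_right _ hc2
      _ ≤ _ := hc3
  have : p ^ 2 < p ^ 3 := Nat.pow_lt_pow_right hp1 (by norm_num)
  omega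

/-- Moving an element past a power when the commutator is central. -/
theorem pow_mul_of_central {a b z : G} (hba : b * a = a * b * z) (hzb : Commute z b) (m : ℕ) :
    b ^ m * a = a * b ^ m * z ^ m := by
  induction m with
  | zero => simp
  | succ m ih =>
    calc b ^ (m + 1) * a = b * (b ^ m * a) := by rw [pow_succ', mul_assoc]
      _ = (b * a) * b ^ m * z ^ m := by rw [ih]; simp only [mul_assoc]
      _ = a * b * (z * b ^ m) * z ^ m := by rw [hba]; simp only [mul_assoc]
      _ = a * b * (b ^ m * z) * z ^ m := by rw [(hzb.pow_right m).eq]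
      _ = a * b ^ (m + 1) * z ^ (m + 1) := by rw [pow_succ' b, pow_succ' z]; simp only [mul_assoc]

/-- Powers of a product when the commutator is central. -/
theorem mul_pow_of_central {a b z : G} (hba : b * a = a * b * z) (hza : Commute z a)
    (hzb : Commute z b) (n : ℕ) : (a * b) ^ n = a ^ n * b ^ n * z ^ n.choose 2 := by
  have key := pow_mul_of_central hba hzb
  induction n with
  | zero => simp
  | succ n ih =>
    have hz1 : Commute (z ^ n.choose 2) a := hza.pow_left _
    have hz2 : Commute (z ^ n.choose 2) b := hzb.pow_left _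
    have hz3 : Commute (z ^ n) b := hzb.pow_left _
    rw [pow_succ, ih]
    calc a ^ n * b ^ n * z ^ n.choose 2 * (a * b)
        = a ^ n * b ^ n * ((z ^ n.choose 2 * a) * b) := by simp only [mul_assoc]
      _ = a ^ n * (b ^ n * a) * (z ^ n.choose 2 * b) := by rw [hz1.eq]; simp only [mul_assoc]
      _ = a ^ n * a * b ^ n * (z ^ n * b) * z ^ n.choose 2 := by
          rw [key, hz2.eq]; simp only [mul_assoc]
      _ = a ^ n * a * b ^ n * b * (z ^ n * z ^ n.choose 2) := by rw [hz3.eq]; simp only [mul_assoc]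
      _ = _ := by
          rw [pow_succ a, pow_succ b, ← pow_add, Nat.choose_succ_succ', Nat.choose_one_right]
          simp only [mul_assoc]

/-- In class 2 with central `p`-th powers the `p`-th power map is multiplicative, for `p` odd. -/
theorem mul_pow_prime (hp : p.Prime) (hp2 : p ≠ 2) {a b : G} (hza : Commute (b⁻¹ * a⁻¹ * b * a) a)
    (hzb : Commute (b⁻¹ * a⁻¹ * b * a) b) (hbp : Commute (b ^ p) a) :
    (a * b) ^ p = a ^ p * b ^ p := by
  set z := b⁻¹ * a⁻¹ * b * a with hz
  have hba : b * a = a * b * z := by rw [hz]; group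
  have key := pow_mul_of_central hba hzb p
  have hzp : z ^ p = 1 := by
    rw [hbp.eq] at key
    exact (mul_eq_left.mp key.symm)
  obtain ⟨k, hk⟩ := hp.dvd_choose_self (k := 2) two_ne_zero (lt_of_le_of_ne hp.two_le (Ne.symm hp2))
  rw [mul_pow_of_central hba hza hzb p, hk, pow_mul, hzp, one_pow, mul_one]

/-- Quotient by a maximal normal subgroup of a `p`-group has order `p`. -/
theorem index_coatom [Finite G] [Fact p.Prime] (hG : IsPGroup p G) {M : Subgroup G}
    (hM : IsCoatom M) : M.Normal ∧ M.index = p := by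
  have hn : M.Normal := by
    have := hG.isNilpotent
    exact Subgroup.NormalizerCondition.normal_of_coatom M normalizerCondition_of_isNilpotent hM
  refine ⟨hn, ?_⟩
  have hQ : IsPGroup p (G ⧸ M) := hG.to_quotient M
  have hne : M.index ≠ 1 := fun h => hM.1 (Subgroup.index_eq_one.mp h)
  have hdvd : p ∣ Nat.card (G ⧸ M) := by
    rcases hQ.card_eq_or_dvd with h | h
    · exact absurd h hne
    · exact h
  obtain ⟨y, hy⟩ := exists_prime_orderOf_dvd_card' (G := G ⧸ M) p hdvd
  obtain ⟨x, rfl⟩ := QuotientGroup.mk'_surjective M y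
  have hle : M < (Subgroup.zpowers (QuotientGroup.mk' M x)).comap (QuotientGroup.mk' M) := by
    refine lt_of_le_of_ne ?_ ?_
    · intro m hm
      rw [Subgroup.mem_comap]
      have : QuotientGroup.mk' M m = 1 := by simpa [QuotientGroup.eq_one_iff] using hm
      rw [this]
      exact Subgroup.one_mem _
    · intro he
      have hx : x ∈ (Subgroup.zpowers (QuotientGroup.mk' M x)).comap (QuotientGroup.mk' M) :=
        Subgroup.mem_zpowers _
      rw [← he] at hx
      have : QuotientGroup.mk' M x = 1 := by simpa [QuotientGroup.eq_one_iff] using hx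
      rw [this, orderOf_one] at hy
      exact (Fact.out : p.Prime).one_lt.ne' hy.symm
  have htop := hM.2 _ hle
  have : Subgroup.zpowers (QuotientGroup.mk' M x) = ⊤ := by
    rw [eq_top_iff]
    intro z _
    obtain ⟨w, rfl⟩ := QuotientGroup.mk'_surjective M z
    exact Subgroup.mem_comap.mp (htop ▸ Subgroup.mem_top w)
  rw [Subgroup.index_eq_card, ← Subgroup.card_top, ← this, Nat.card_zpowers, hy]

universe u in
private theorem isCyclic_aux (p : ℕ) [hpf : Fact p.Prime] (hp2 : p ≠ 2) : ∀ n : ℕ,
    ∀ (P : Type u) [Group P] [Finite P], Nat.card P = n → IsPGroup p P →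
      Nat.card {x : P // x ^ p = 1} ≤ p → IsCyclic P := by
  intro n
  induction n using Nat.strong_induction_on with
  | _ n ih =>
    intro P _ _ hn hP hu
    by_contra hcyc
    have hsub : ∀ M : Subgroup P, IsCoatom M → IsCyclic M := by
      intro M hM
      refine ih _ ?_ M rfl (hP.to_subgroup M) ?_
      · rw [← hn]
        exact lt_of_le_of_ne (Subgroup.card_le_card_group M)
          (fun h => hM.1 (Subgroup.eq_top_of_card_eq M h))
      · refine le_trans ?_ hu
        refine Nat.card_le_card_of_injective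
          (fun x => ⟨(x.1 : P), by simpa using congrArg Subtype.val x.2⟩) ?_
        intro x y hxy
        exact Subtype.ext (Subtype.ext (congrArg (fun t : {x : P // x ^ p = 1} => t.1) hxy))
    have : Nontrivial P := not_subsingleton_iff_nontrivial.mp fun h => hcyc inferInstance
    obtain ⟨M, hM, -⟩ := (eq_top_or_exists_le_coatom (⊥ : Subgroup P)).resolve_left bot_ne_top
    obtain ⟨x, hx⟩ : ∃ x : P, x ∉ M := by
      by_contra h
      exact hM.1 (eq_top_iff.mpr fun y _ => not_not.mp fun hy => h ⟨y, hy⟩)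
    have hxt : Subgroup.zpowers x ≠ ⊤ := fun h => hcyc (isCyclic_iff_exists_zpowers_eq_top.mpr ⟨x, h⟩)
    obtain ⟨N, hN, hxN⟩ := (eq_top_or_exists_le_coatom (Subgroup.zpowers x)).resolve_left hxt
    have hMN : M ≠ N := fun h => hx (h ▸ hxN (Subgroup.mem_zpowers x))
    obtain ⟨hMn, hMi⟩ := index_coatom hP hM
    obtain ⟨hNn, hNi⟩ := index_coatom hP hN
    have hcycM := hsub M hM
    have hcycN := hsub N hN
    have hsup : M ⊔ N = ⊤ := hM.2 _ (lt_of_le_of_ne le_sup_left fun he => hMN
      ((hN.le_iff_eq hM.1).mp (he ▸ le_sup_right)))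
    have hK : M ⊓ N ≤ Subgroup.center P := by
      intro k hk
      have hle : M ⊔ N ≤ Subgroup.centralizer {k} := by
        refine sup_le ?_ ?_
        · intro y hy
          rw [Subgroup.mem_centralizer_singleton_iff]
          exact congrArg Subtype.val (IsCyclic.isMulCommutative.is_comm.comm (⟨y, hy⟩ : M) ⟨k, hk.1⟩)
        · intro y hy
          rw [Subgroup.mem_centralizer_singleton_iff]
          exact congrArg Subtype.val (IsCyclic.isMulCommutative.is_comm.comm (⟨y, hy⟩ : N) ⟨k, hk.2⟩)
      rw [Subgroup.mem_center_iff]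
      intro g
      exact Subgroup.mem_centralizer_singleton_iff.mp (hle (hsup ▸ Subgroup.mem_top g))
    have hpow : ∀ (L : Subgroup P) [L.Normal], L.index = p → ∀ y : P, y ^ p ∈ L := by
      intro L _ hL y
      have := L.pow_index_mem y
      rwa [hL] at this
    have habel : ∀ (L : Subgroup P) [L.Normal], L.index = p → ∀ a b : P, b⁻¹ * a⁻¹ * b * a ∈ L := by
      intro L _ hL a b
      have hc : IsCyclic (P ⧸ L) := isCyclic_of_prime_card (p := p) (by rw [← Subgroup.index_eq_card, hL])
      rw [← QuotientGroup.eq_one_iff]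
      have hab : Commute (a : P ⧸ L) (b : P ⧸ L) := IsCyclic.isMulCommutative.is_comm.comm _ _
      rw [QuotientGroup.mk_mul, QuotientGroup.mk_mul, QuotientGroup.mk_mul, QuotientGroup.mk_inv,
        QuotientGroup.mk_inv, mul_assoc, ← hab.eq]
      group
    have hpK : ∀ y : P, y ^ p ∈ M ⊓ N := fun y => ⟨hpow M hMi y, hpow N hNi y⟩
    have hcK : ∀ a b : P, b⁻¹ * a⁻¹ * b * a ∈ Subgroup.center P :=
      fun a b => hK ⟨habel M hMi a b, habel N hNi a b⟩
    have hcom : ∀ c ∈ Subgroup.center P, ∀ g : P, Commute c g :=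
      fun c hc g => (Subgroup.mem_center_iff.mp hc g).symm
    let f : P →* (M ⊓ N : Subgroup P) :=
      { toFun := fun y => ⟨y ^ p, hpK y⟩
        map_one' := Subtype.ext (one_pow p)
        map_mul' := fun a b => Subtype.ext (mul_pow_prime hpf.out hp2 (hcom _ (hcK a b) _)
          (hcom _ (hcK a b) _) (hcom _ (hK (hpK b)) _)) }
    have hker : Nat.card f.ker ≤ p := by
      refine le_trans ?_ hu
      refine Nat.card_le_card_of_injective (fun y => ⟨(y : P), congrArg Subtype.val y.2⟩) ?_
      intro y z hyz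
      exact Subtype.ext (congrArg (fun t : {x : P // x ^ p = 1} => t.1) hyz)
    have hrange : Nat.card f.range ≤ Nat.card (M ⊓ N : Subgroup P) := Subgroup.card_le_card_group _
    have hlt : M ⊓ N < M := lt_of_le_of_ne inf_le_left fun he =>
      hMN.symm ((hM.le_iff_eq hN.1).mp (he ▸ inf_le_right))
    have h1 := card_mul_prime_le_of_lt (hP.to_subgroup M) hlt
    have h2 : Nat.card P = Nat.card M * p := by rw [← hMi, Subgroup.card_mul_index]
    have h3 : Nat.card P = Nat.card f.ker * Nat.card f.range := by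
      rw [← f.ker.card_mul_index, Subgroup.index_ker]
    have h4 : Nat.card P ≤ Nat.card M :=
      calc Nat.card P = Nat.card f.ker * Nat.card f.range := h3
        _ ≤ p * Nat.card (M ⊓ N : Subgroup P) := Nat.mul_le_mul hker hrange
        _ ≤ Nat.card M := by rw [mul_comm]; exact h1
    have h5 : Nat.card M * 2 ≤ Nat.card M * p := Nat.mul_le_mul_left _ hpf.out.two_le
    have h6 : 0 < Nat.card M := Nat.card_pos
    omega

/-- An odd `p`-group with at most `p` solutions of `x ^ p = 1` is cyclic. -/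
theorem isCyclic_of_card_pow_le [Finite G] [Fact p.Prime] (hp2 : p ≠ 2) (hG : IsPGroup p G)
    (hu : Nat.card {x : G // x ^ p = 1} ≤ p) : IsCyclic G :=
  isCyclic_aux p hp2 _ G rfl hG hu

end Cfsg.Agent.RankTwo
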