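import Mathlib
import Cfsg.Prelude.Def_PLocal

/-!
The few explicit elements of `Qd(p)` used in the study of its extensions.
-/

set_option autoImplicit false
set_option linter.unusedSimpArgs false

namespace Cfsg.Agent.RankTwo

open scoped MatrixGroups

variable {p : ℕ}

/-- Upper transvection in `Qd(p)`. -/
def qdE (a : ZMod p) : ↥(Cfsg.qd p) :=
  ⟨⟨!![1, a, 0; 0, 1, 0; 0, 0, 1], by simp [Matrix.det_fin_three]⟩,
    Subgroup.subset_closure ⟨rfl, rfl, rfl⟩⟩

/-- Lower transvection in `Qd(p)`. -/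
def qdF (a : ZMod p) : ↥(Cfsg.qd p) :=
  ⟨⟨!![1, 0, 0; a, 1, 0; 0, 0, 1], by simp [Matrix.det_fin_three]⟩,
    Subgroup.subset_closure ⟨rfl, rfl, rfl⟩⟩

/-- Translation in `Qd(p)`. -/
def qdT (v : ZMod p × ZMod p) : ↥(Cfsg.qd p) :=
  ⟨⟨!![1, 0, v.1; 0, 1, v.2; 0, 0, 1], by simp [Matrix.det_fin_three]⟩,
    Subgroup.subset_closure ⟨rfl, rfl, rfl⟩⟩

/-- The diagonal element `diag(a, b, 1)`, written as a product of transvections (for `a * b = 1`). -/
def qdD (a b : ZMod p) : ↥(Cfsg.qd p) :=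
  qdE a * qdF (-b) * qdE a * qdE (-1) * qdF 1 * qdE (-1)

theorem qd_ext {g h : ↥(Cfsg.qd p)}
    (hh : (g.1 : Matrix (Fin 3) (Fin 3) (ZMod p)) = (h.1 : Matrix (Fin 3) (Fin 3) (ZMod p))) : g = h :=
  Subtype.ext (Subtype.ext hh)

theorem qd_mul_val (g h : ↥(Cfsg.qd p)) :
    ((g * h).1 : Matrix (Fin 3) (Fin 3) (ZMod p)) =
      (g.1 : Matrix (Fin 3) (Fin 3) (ZMod p)) * (h.1 : Matrix (Fin 3) (Fin 3) (ZMod p)) := rfl

theorem qd_one_val : ((1 : ↥(Cfsg.qd p)).1 : Matrix (Fin 3) (Fin 3) (ZMod p)) = 1 := rfl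

theorem qdE_val (a : ZMod p) :
    ((qdE a).1 : Matrix (Fin 3) (Fin 3) (ZMod p)) = !![1, a, 0; 0, 1, 0; 0, 0, 1] := rfl

theorem qdF_val (a : ZMod p) :
    ((qdF a).1 : Matrix (Fin 3) (Fin 3) (ZMod p)) = !![1, 0, 0; a, 1, 0; 0, 0, 1] := rfl

theorem qdT_val (v : ZMod p × ZMod p) :
    ((qdT v).1 : Matrix (Fin 3) (Fin 3) (ZMod p)) = !![1, 0, v.1; 0, 1, v.2; 0, 0, 1] := rfl

theorem qdD_val {a b : ZMod p} (h : a * b = 1) :
    ((qdD a b).1 : Matrix (Fin 3) (Fin 3) (ZMod p)) = !![a, 0, 0; 0, b, 0; 0, 0, 1] := by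
  simp only [qdD, qd_mul_val, qdE_val, qdF_val]
  ext i j
  fin_cases i <;> fin_cases j <;> simp [Matrix.mul_apply, Fin.sum_univ_three] <;>
    grind

theorem qdE_mul (a b : ZMod p) : qdE a * qdE b = qdE (a + b) := by
  apply qd_ext
  simp only [qdE_val, qd_mul_val]
  ext i j
  fin_cases i <;> fin_cases j <;> simp [Matrix.mul_apply, Fin.sum_univ_three, add_comm]

theorem qdF_mul (a b : ZMod p) : qdF a * qdF b = qdF (a + b) := by
  apply qd_ext
  simp only [qdF_val, qd_mul_val]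
  ext i j
  fin_cases i <;> fin_cases j <;> simp [Matrix.mul_apply, Fin.sum_univ_three, add_comm]

theorem qdT_mul (a b : ZMod p × ZMod p) : qdT a * qdT b = qdT (a + b) := by
  apply qd_ext
  simp only [qdT_val, qd_mul_val]
  ext i j
  fin_cases i <;> fin_cases j <;> simp [Matrix.mul_apply, Fin.sum_univ_three, add_comm]

theorem qdT_zero : qdT (0 : ZMod p × ZMod p) = 1 := by
  apply qd_ext
  ext i j
  fin_cases i <;> fin_cases j <;> simp [qdT_val, qd_one_val]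

theorem qdE_zero : qdE (0 : ZMod p) = 1 := by
  apply qd_ext
  ext i j
  fin_cases i <;> fin_cases j <;> simp [qdE_val, qd_one_val]

theorem qdF_zero : qdF (0 : ZMod p) = 1 := by
  apply qd_ext
  ext i j
  fin_cases i <;> fin_cases j <;> simp [qdF_val, qd_one_val]

theorem qdE_pow (a : ZMod p) (n : ℕ) : qdE a ^ n = qdE ((n : ZMod p) * a) := by
  induction n with
  | zero => simp [qdE_zero]
  | succ n ih => rw [pow_succ, ih, qdE_mul]; push_cast; ring_nf

theorem qdF_pow (a : ZMod p) (n : ℕ) : qdF a ^ n = qdF ((n : ZMod p) * a) := by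
  induction n with
  | zero => simp [qdF_zero]
  | succ n ih => rw [pow_succ, ih, qdF_mul]; push_cast; ring_nf

theorem qdE_pow_card (a : ZMod p) : qdE a ^ p = 1 := by
  simp [qdE_pow, qdE_zero]

theorem qdF_pow_card (a : ZMod p) : qdF a ^ p = 1 := by
  simp [qdF_pow, qdF_zero]

theorem qdT_injective : Function.Injective (qdT : ZMod p × ZMod p → ↥(Cfsg.qd p)) := by
  intro a b h
  have h' := congrArg (fun g : ↥(Cfsg.qd p) => (g.1 : Matrix (Fin 3) (Fin 3) (ZMod p))) h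
  have h0 := congrFun (congrFun h' 0) 2
  have h1 := congrFun (congrFun h' 1) 2
  exact Prod.ext (by simpa [qdT] using h0) (by simpa [qdT] using h1)

/-- The translations of `Qd(p)`. -/
def qdTrans (p : ℕ) : Subgroup ↥(Cfsg.qd p) :=
  (MonoidHom.mk' (fun v : Multiplicative (ZMod p × ZMod p) => qdT v.toAdd)
    (fun a b => (qdT_mul a.toAdd b.toAdd).symm)).range

theorem mem_qdTrans {g : ↥(Cfsg.qd p)} : g ∈ qdTrans p ↔ ∃ v, qdT v = g :=
  ⟨fun ⟨v, hv⟩ => ⟨v.toAdd, hv⟩, fun ⟨v, hv⟩ => ⟨Multiplicative.ofAdd v, hv⟩⟩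

theorem qdT_conj [Fact p.Prime] (g : ↥(Cfsg.qd p)) :
    ∀ v : ZMod p × ZMod p, ∃ w, g * qdT v * g⁻¹ = qdT w := by
  obtain ⟨g, hg⟩ := g
  suffices hs : ∀ v : ZMod p × ZMod p, ∃ w, g * (qdT v).1 = (qdT w).1 * g by
    intro v
    obtain ⟨w, hw⟩ := hs v
    exact ⟨w, Subtype.ext (by simp [hw])⟩
  induction hg using Subgroup.closure_induction with
  | mem m hm =>
    intro v
    obtain ⟨h20, h21, h22⟩ := hm
    refine ⟨((m : Matrix (Fin 3) (Fin 3) (ZMod p)) 0 0 * v.1 + (m : Matrix (Fin 3) (Fin 3) (ZMod p)) 0 1 * v.2,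
      (m : Matrix (Fin 3) (Fin 3) (ZMod p)) 1 0 * v.1 + (m : Matrix (Fin 3) (Fin 3) (ZMod p)) 1 1 * v.2), ?_⟩
    apply Subtype.ext
    simp only [qdT_val, Matrix.SpecialLinearGroup.coe_mul]
    ext i j
    fin_cases i <;> fin_cases j <;>
      simp [Matrix.mul_apply, Fin.sum_univ_three, h20, h21, h22] <;> ring
  | one => intro v; exact ⟨v, by simp⟩
  | mul a b _ _ iha ihb =>
    intro v
    obtain ⟨w, hw⟩ := ihb v
    obtain ⟨w', hw'⟩ := iha w
    exact ⟨w', by rw [mul_assoc, hw, ← mul_assoc, hw', mul_assoc]⟩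
  | inv a _ iha =>
    choose F hF using iha
    have hinj : Function.Injective F := fun v v' h => by
      have h' := (hF v).trans ((congrArg (fun x => (qdT x).1 * a) h).trans (hF v').symm)
      exact qdT_injective (Subtype.ext (mul_left_cancel h'))
    intro v
    obtain ⟨w, hw⟩ := Finite.surjective_of_injective hinj v
    refine ⟨w, ?_⟩
    have := hF w
    rw [hw] at this
    rw [inv_mul_eq_iff_eq_mul, ← mul_assoc, this, mul_inv_cancel_right]

theorem qdTrans_normal [Fact p.Prime] : (qdTrans p).Normal :=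
  ⟨fun n hn g => by
    obtain ⟨v, rfl⟩ := mem_qdTrans.mp hn
    obtain ⟨w, hw⟩ := qdT_conj g v
    exact mem_qdTrans.mpr ⟨w, hw.symm⟩⟩

theorem card_qdTrans [Fact p.Prime] : Nat.card (qdTrans p) = p ^ 2 := by
  have e : qdTrans p = (MonoidHom.mk' (fun v : Multiplicative (ZMod p × ZMod p) => qdT v.toAdd)
    (fun a b => (qdT_mul a.toAdd b.toAdd).symm)).range := rfl
  rw [e, ← Nat.card_congr (MonoidHom.ofInjective (f := MonoidHom.mk' (fun v : Multiplicative (ZMod p × ZMod p) => qdT v.toAdd)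
    (fun a b => (qdT_mul a.toAdd b.toAdd).symm)) qdT_injective).toEquiv,
    Nat.card_congr (Multiplicative.toAdd), Nat.card_prod, Nat.card_zmod, pow_two]

theorem qdTau_conj_trans (v : ZMod p × ZMod p) :
    qdD (-1) (-1) * qdT v = qdT (-v) * qdD (-1) (-1) := by
  apply qd_ext
  simp only [qd_mul_val, qdT_val,
    qdD_val (show (-1 : ZMod p) * -1 = 1 by ring)]
  ext i j
  fin_cases i <;> fin_cases j <;> simp [Matrix.mul_apply, Fin.sum_univ_three]

theorem qdTau_inverts {g : ↥(Cfsg.qd p)} (hg : g ∈ qdTrans p) :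
    qdD (-1) (-1) * g * (qdD (-1) (-1))⁻¹ = g⁻¹ := by
  obtain ⟨v, rfl⟩ := mem_qdTrans.mp hg
  rw [qdTau_conj_trans, mul_inv_cancel_right]
  exact (inv_eq_of_mul_eq_one_right (by rw [qdT_mul, add_neg_cancel, qdT_zero])).symm

theorem qdTau_sq : qdD (-1 : ZMod p) (-1) * qdD (-1) (-1) = 1 := by
  apply qd_ext
  simp only [qd_mul_val, qd_one_val,
    qdD_val (show (-1 : ZMod p) * -1 = 1 by ring)]
  ext i j
  fin_cases i <;> fin_cases j <;> simp [Matrix.mul_apply, Fin.sum_univ_three]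

theorem qdTau_ne_one [Fact p.Prime] (hp : p ≠ 2) : qdD (-1 : ZMod p) (-1) ≠ 1 := by
  intro h
  have h' := congrArg (fun g : ↥(Cfsg.qd p) => (g.1 : Matrix (Fin 3) (Fin 3) (ZMod p)) 0 0) h
  simp only [qdD_val (show (-1 : ZMod p) * -1 = 1 by ring)] at h'
  have h2 : ((2 : ℕ) : ZMod p) = 0 := by
    have : (-1 : ZMod p) = 1 := by simpa [qd_one_val] using h'
    push_cast
    linear_combination -this
  rw [ZMod.natCast_eq_zero_iff] at h2
  exact hp ((Nat.prime_dvd_prime_iff_eq Fact.out Nat.prime_two).mp h2)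

theorem qdTau_comm_E (a : ZMod p) : Commute (qdD (-1) (-1)) (qdE a) := by
  apply qd_ext
  simp only [qd_mul_val, qdE_val,
    qdD_val (show (-1 : ZMod p) * -1 = 1 by ring)]
  ext i j
  fin_cases i <;> fin_cases j <;> simp [Matrix.mul_apply, Fin.sum_univ_three]

theorem qdTau_comm_F (a : ZMod p) : Commute (qdD (-1) (-1)) (qdF a) := by
  apply qd_ext
  simp only [qd_mul_val, qdF_val,
    qdD_val (show (-1 : ZMod p) * -1 = 1 by ring)]
  ext i j
  fin_cases i <;> fin_cases j <;> simp [Matrix.mul_apply, Fin.sum_univ_three]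

theorem qdD_conj_E {b : ZMod p} (h : 2 * b = 1) :
    qdD 2 b * qdE 1 * (qdD 2 b)⁻¹ = qdE 1 ^ 4 := by
  rw [mul_inv_eq_iff_eq_mul, qdE_pow]
  apply qd_ext
  simp only [qd_mul_val, qdE_val, qdD_val h]
  ext i j
  fin_cases i <;> fin_cases j <;> simp [Matrix.mul_apply, Fin.sum_univ_three]
  linear_combination (-2 : ZMod p) * h

theorem qdE_one_ne_one [Fact p.Prime] : qdE (1 : ZMod p) ≠ 1 := by
  intro h
  have h' := congrArg (fun g : ↥(Cfsg.qd p) => (g.1 : Matrix (Fin 3) (Fin 3) (ZMod p)) 0 1) h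
  simp [qdE] at h'

theorem mem_closure_of_qdD {S : Subgroup ↥(Cfsg.qd p)} (hE : ∀ a, qdE a ∈ S) (hF : ∀ a, qdF a ∈ S)
    (a b : ZMod p) : qdD a b ∈ S :=
  S.mul_mem (S.mul_mem (S.mul_mem (S.mul_mem (S.mul_mem (hE a) (hF _)) (hE a)) (hE _)) (hF 1)) (hE _)

end Cfsg.Agent.RankTwo
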