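import Cfsg.Prelude.Def_LocalEven
import Cfsg.Agent.Lib.RankTwo.Basic
import Cfsg.Agent.Lib.PGroup.Critical
import Cfsg.Agent.Lib.PGroup.Class2
import Cfsg.Agent.Lib.Coprime.FixedForce
import Cfsg.Agent.Lib.ConjFun.Degree
import Cfsg.Agent.Lib.ConjFun.Engel
import Cfsg.Agent.Lib.PCore.HallHigman
import Cfsg.Agent.Lib.PComplement.Final
import Mathlib.FieldTheory.Finite.GaloisField

/-!
# Chief factors of `p`-solvable groups of `p`-rank at most two, `p` odd

* `relIndex_eq_of_abelian_exponent`: a chief factor on which the group acts as an abelian group of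
  exponent dividing `p - 1` has order `p`;
* `relIndex_le_of_pCentral`: below a normal `p`-subgroup whose elements of order `p` are central and
  generate at most `p ^ 2` elements, chief factors have order at most `p ^ 2`;
* `relIndex_le_of_constrained`: the case `C(O_p(G)) ≤ O_p(G)`.
-/

set_option autoImplicit false
set_option linter.style.haveILetI false
set_option maxHeartbeats 400000

namespace Cfsg.Agent.RankTwo

open Subgroup (centralizer normalizer zpowers)
open scoped commutatorElement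

universe u

variable {G : Type u} [Group G] {p : ℕ}

/-- Reading off `|H : K|` in the quotient. -/
theorem relIndex_eq_card_map {H K : Subgroup G} [K.Normal] :
    K.relIndex H = Nat.card (H.map (QuotientGroup.mk' K)) := by
  have h := Subgroup.relIndex_ker (QuotientGroup.mk' K) (K := H)
  rwa [QuotientGroup.ker_mk'] at h

/-- A chief factor met by `M` in itself is read inside `M`. -/
theorem relIndex_inf_eq {H K M : Subgroup G} [K.Normal] (hKH : K ≤ H)
    (hcov : H ≤ (H ⊓ M) ⊔ K) : K.relIndex H = (K ⊓ M).relIndex (H ⊓ M) := by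
  have h1 : (H ⊓ M) ⊔ K = H := le_antisymm (sup_le inf_le_left hKH) hcov
  have h2 : K ⊓ M = K ⊓ (H ⊓ M) := by
    rw [← inf_assoc, inf_eq_left.2 hKH]
  have h3 := Subgroup.relIndex_sup_right (H ⊓ M) K
  rw [h1] at h3
  rw [h3, h2, Subgroup.inf_relIndex_right]

/-- A chief factor not met by `M` is read modulo `M`. -/
theorem relIndex_map_eq {H K M : Subgroup G} [M.Normal] [K.Normal] (hKH : K ≤ H)
    (hne : H ⊓ M ≤ K) : K.relIndex H =
      (K.map (QuotientGroup.mk' M)).relIndex (H.map (QuotientGroup.mk' M)) := by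
  rw [Subgroup.relIndex_map_map, QuotientGroup.ker_mk']
  have h1 : (K ⊔ M) ⊓ H = K := by
    refine le_antisymm ?_ (le_inf le_sup_left hKH)
    rintro x ⟨hx, hxH⟩
    obtain ⟨k, hk, m, hm, rfl⟩ := Subgroup.mem_sup_of_normal_right.1 hx
    refine K.mul_mem hk (hne ⟨?_, hm⟩)
    simpa using H.mul_mem (H.inv_mem (hKH hk)) hxH
  have h2 : (K ⊔ M).relIndex (H ⊔ M) = (K ⊔ M).relIndex H := by
    conv_lhs => rw [show H ⊔ M = H ⊔ (K ⊔ M) by rw [← sup_assoc, sup_eq_left.2 hKH]]
    rw [Subgroup.relIndex_sup_right]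
  rw [h2]
  conv_rhs => rw [← Subgroup.inf_relIndex_right, h1]

/-- The two possible positions of a chief factor relative to a normal subgroup. -/
theorem chief_cases {H K : Subgroup G} (h : Cfsg.IsChiefFactor H K) (M : Subgroup G) [M.Normal] :
    H ≤ (H ⊓ M) ⊔ K ∨ H ⊓ M ≤ K := by
  haveI := h.2.1
  haveI := h.2.2.1
  rcases h.2.2.2 ((H ⊓ M) ⊔ K) inferInstance le_sup_right (sup_le inf_le_left h.1.le) with e | e
  · exact Or.inr (le_sup_left.trans e.le)
  · exact Or.inl e.ge

theorem isChiefFactor_map {H K M : Subgroup G} [M.Normal] (h : Cfsg.IsChiefFactor H K)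
    (hne : H ⊓ M ≤ K) :
    Cfsg.IsChiefFactor (H.map (QuotientGroup.mk' M)) (K.map (QuotientGroup.mk' M)) := by
  obtain ⟨hlt, hHn, hKn, hmin⟩ := h
  have hs := QuotientGroup.mk'_surjective M
  refine ⟨lt_of_le_of_ne (Subgroup.map_mono hlt.le) fun e => hlt.not_ge ?_, hHn.map _ hs, hKn.map _ hs,
    fun N hN h1 h2 => ?_⟩
  · intro x hx
    obtain ⟨k, hk, e'⟩ := e.ge (Subgroup.mem_map_of_mem (QuotientGroup.mk' M) hx)
    have h3 : k⁻¹ * x ∈ M := QuotientGroup.eq.1 e'
    have h4 : k⁻¹ * x ∈ K := hne ⟨H.mul_mem (H.inv_mem (hlt.le hk)) hx, h3⟩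
    simpa using K.mul_mem hk h4
  · rcases hmin (N.comap (QuotientGroup.mk' M) ⊓ H) inferInstance
      (le_inf (Subgroup.map_le_iff_le_comap.1 h1) hlt.le) inf_le_right with e | e
    · left
      refine le_antisymm (fun y hy => ?_) h1
      obtain ⟨x, hx, rfl⟩ := h2 hy
      exact Subgroup.mem_map_of_mem _ (e.le ⟨hy, hx⟩)
    · right
      refine le_antisymm h2 (Subgroup.map_le_iff_le_comap.2 ?_)
      exact e.ge.trans inf_le_left

variable [Finite G] [Fact p.Prime]

omit [Finite G] in
/-- An endomorphism `T` of a finite `ZMod p`-module with `T ^ p = T` has an eigenvector. -/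
theorem exists_eigen_linear {W : Type u} [AddCommGroup W] [Module (ZMod p) W] [Finite W] [Nontrivial W]
    (T : Module.End (ZMod p) W) (hT : T ^ p = T) : ∃ y : W, y ≠ 0 ∧ ∃ c : ℕ, T y = c • y := by
  have hTp : Polynomial.aeval T (Polynomial.X ^ p - Polynomial.X : Polynomial (ZMod p)) = 0 := by
    rw [map_sub, map_pow, Polynomial.aeval_X, sub_eq_zero, hT]
  have hne0 : (Polynomial.X ^ p - Polynomial.X : Polynomial (ZMod p)) ≠ 0 :=
    FiniteField.X_pow_card_sub_X_ne_zero _ (Fact.out : p.Prime).one_lt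
  have hsplit : (Polynomial.X ^ p - Polynomial.X : Polynomial (ZMod p)).Splits := by
    simpa using FiniteField.splits_X_pow_nat_card_sub_X p (K := ZMod p)
  have hs := hsplit.of_dvd hne0 (minpoly.dvd (ZMod p) T hTp)
  obtain ⟨lam, hlam⟩ := hs.exists_eval_eq_zero
    (minpoly.degree_pos (Algebra.IsIntegral.isIntegral T)).ne'
  obtain ⟨y, hy⟩ := (Module.End.hasEigenvalue_of_isRoot (f := T) (μ := lam) hlam).exists_hasEigenvector
  refine ⟨y, hy.2, lam.val, ?_⟩
  rw [hy.apply_eq_smul, ← Nat.cast_smul_eq_nsmul (ZMod p), ZMod.natCast_zmod_val]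

omit [Finite G] in
/-- The endomorphism of `Additive A` given by an automorphism, with its powers. -/
theorem exists_end {A : Type u} [CommGroup A] [Module (ZMod p) (Additive A)] (σ : MulAut A) :
    ∃ T : Module.End (ZMod p) (Additive A), ∀ (n : ℕ) (v : A),
      (T ^ n) (Additive.ofMul v) = Additive.ofMul ((σ ^ n) v) := by
  refine ⟨(MonoidHom.toAdditive σ.toMonoidHom).toZModLinearMap p, fun n => ?_⟩
  induction n with
  | zero => intro v; simp
  | succ n ih => intro v; rw [pow_succ, pow_succ, Module.End.mul_apply]; exact ih (σ v)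

omit [Finite G] in
/-- An automorphism of exponent dividing `p - 1` of an elementary abelian `p`-group has an eigenvector. -/
theorem exists_eigen {A : Type u} [CommGroup A] [Finite A] [Nontrivial A] (hA : ∀ a : A, a ^ p = 1)
    (σ : MulAut A) (hσ : σ ^ (p - 1) = 1) : ∃ v : A, v ≠ 1 ∧ ∃ c : ℕ, σ v = v ^ c := by
  have inst : Module (ZMod p) (Additive A) := AddCommGroup.zmodModule fun x =>
    congrArg Additive.ofMul (hA (Additive.toMul x))
  obtain ⟨T, hT⟩ := exists_end (p := p) σ
  have hσ' : σ ^ p = σ := by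
    calc σ ^ p = σ ^ (p - 1) * σ := by
          rw [← pow_succ, Nat.sub_add_cancel (Fact.out : p.Prime).one_le]
      _ = σ := by rw [hσ, one_mul]
  have hTp : T ^ p = T := by
    refine LinearMap.ext fun y => ?_
    obtain ⟨v, rfl⟩ := Additive.ofMul.surjective y
    have h1 := hT 1 v
    rw [pow_one, pow_one] at h1
    rw [hT, hσ', h1]
  obtain ⟨y, hy, c, hc⟩ := exists_eigen_linear T hTp
  obtain ⟨v, rfl⟩ := Additive.ofMul.surjective y
  refine ⟨v, fun e => hy (by rw [e]; rfl), c, ?_⟩
  have h1 := hT 1 v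
  rw [pow_one, pow_one, hc, ← ofMul_pow] at h1
  exact (Additive.ofMul.injective h1).symm

/-- A chief factor on which `G` acts as an abelian group of exponent dividing `p - 1` has order `p`. -/
theorem relIndex_eq_of_abelian_exponent {H K : Subgroup G} (h : Cfsg.IsChiefFactor H K)
    (hH : IsPGroup p H)
    (hab : ∀ g g' : G, ∀ x ∈ H, ⁅⁅g, g'⁆, x⁆ ∈ K)
    (hexp : ∀ g : G, ∀ x ∈ H, ⁅g ^ (p - 1), x⁆ ∈ K) : K.relIndex H = p := by
  classical
  haveI := h.2.2.1
  have hHn := h.2.1
  set π := QuotientGroup.mk' K with hπ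
  set V := H.map π with hVdef
  haveI : V.Normal := hHn.map _ (QuotientGroup.mk'_surjective K)
  have hVp : IsPGroup p V := hH.map π
  have hVcomm : ∀ a ∈ V, ∀ b ∈ V, a * b = b * a := by
    rintro _ ⟨a, ha, rfl⟩ _ ⟨b, hb, rfl⟩
    have h1 : (haveI := hHn; ⁅H, H⁆ ≤ K) := by
      haveI := hHn
      exact ConjFun.commutator_le_of_isChiefFactor h hH hH
    rw [← map_mul, ← map_mul]
    refine (QuotientGroup.eq_iff_div_mem).2 ?_
    have := h1 (Subgroup.commutator_mem_commutator ha hb)
    simpa [commutatorElement_def, div_eq_mul_inv, mul_assoc] using this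
  have hVpow : ∀ a ∈ V, a ^ p = 1 := by
    rintro _ ⟨a, ha, rfl⟩
    rw [← map_pow]
    exact (QuotientGroup.eq_one_iff _).2 (ConjFun.pow_mem_of_isChiefFactor h hH ha)
  have hVne : V ≠ ⊥ := by
    rw [hVdef, Ne, Subgroup.map_eq_bot_iff, hπ, QuotientGroup.ker_mk']
    exact h.1.not_ge
  -- every element acts as a scalar
  have hscal : ∀ g : G, ∃ c : ℕ, ∀ v ∈ V, π g * v * (π g)⁻¹ = v ^ c := by
    intro g
    let _ : CommGroup V := { (inferInstance : Group V) with
      mul_comm := fun a b => Subtype.ext (hVcomm _ a.2 _ b.2) }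
    haveI : Nontrivial V := (Subgroup.nontrivial_iff_ne_bot V).2 hVne
    set σ : MulAut V := MulAut.conjNormal (π g) with hσ
    have hσp : σ ^ (p - 1) = 1 := by
      refine MulEquiv.ext fun v => Subtype.ext ?_
      obtain ⟨x, hx, hxv⟩ := v.2
      rw [hσ, ← map_pow, MulAut.conjNormal_apply, MulAut.one_apply, ← map_pow, ← hxv, ← map_inv,
        ← map_mul, ← map_mul]
      refine (QuotientGroup.eq_iff_div_mem).2 ?_
      simpa [commutatorElement_def, div_eq_mul_inv, mul_assoc] using hexp g x hx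
    obtain ⟨v, hv1', c, hv⟩ := exists_eigen (p := p) (fun a : V => Subtype.ext (hVpow _ a.2)) σ hσp
    refine ⟨c, ?_⟩
    -- the eigenspace is invariant
    set E : Subgroup (G ⧸ K) :=
      { carrier := {w | w ∈ V ∧ π g * w * (π g)⁻¹ = w ^ c}
        one_mem' := ⟨one_mem _, by simp⟩
        mul_mem' := fun {a b} ha hb => ⟨mul_mem ha.1 hb.1, by
          rw [(show Commute a b from hVcomm a ha.1 b hb.1).mul_pow, ← ha.2, ← hb.2]; group⟩
        inv_mem' := fun {a} ha => ⟨inv_mem ha.1, by rw [inv_pow, ← ha.2]; group⟩ } with hE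
    haveI : E.Normal := by
      refine ⟨fun w hw q => ⟨Subgroup.Normal.conj_mem inferInstance w hw.1 q, ?_⟩⟩
      obtain ⟨g', rfl⟩ := QuotientGroup.mk'_surjective K q
      obtain ⟨x, hx, rfl⟩ := hw.1
      have hw' : π g * π x * (π g)⁻¹ = π x ^ c := hw.2
      have hcomm : π g * π g' * π x * (π g * π g')⁻¹ = π g' * π g * π x * (π g' * π g)⁻¹ := by
        have hy : g' * g * x * (g' * g)⁻¹ ∈ H := hHn.conj_mem x hx _
        have h1 := hab g g' _ hy
        rw [← QuotientGroup.eq_one_iff] at h1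
        change π ⁅⁅g, g'⁆, _⁆ = 1 at h1
        rw [map_commutatorElement, commutatorElement_eq_one_iff_mul_comm] at h1
        simp only [map_commutatorElement, commutatorElement_def, map_mul, map_inv] at h1
        calc π g * π g' * π x * (π g * π g')⁻¹
            = π g * π g' * (π g)⁻¹ * (π g')⁻¹ * (π g' * π g * π x * (π g' * π g)⁻¹) *
              (π g * π g' * (π g)⁻¹ * (π g')⁻¹)⁻¹ := by group
          _ = _ := by rw [h1]; group
      show π g * (π g' * π x * (π g')⁻¹) * (π g)⁻¹ = (π g' * π x * (π g')⁻¹) ^ c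
      rw [conj_pow, ← hw']
      calc π g * (π g' * π x * (π g')⁻¹) * (π g)⁻¹ = π g * π g' * π x * (π g * π g')⁻¹ := by group
        _ = _ := hcomm
        _ = _ := by group
    have hvE : (v : G ⧸ K) ∈ E := ⟨v.2, by
      have := congrArg (Subtype.val) hv
      rw [hσ, MulAut.conjNormal_apply, SubmonoidClass.coe_pow] at this
      exact this⟩
    have hEle : E ≤ V := fun w hw => hw.1
    have hmin := h.2.2.2 (E.comap π) inferInstance
      ((QuotientGroup.ker_mk' K).ge.trans (MonoidHom.ker_le_comap _ _))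
      (by
        intro x hx
        obtain ⟨x', hx', e⟩ := hEle hx
        have h3 : x'⁻¹ * x ∈ K := QuotientGroup.eq.1 e
        simpa using H.mul_mem hx' (h.1.le h3))
    rcases hmin with e | e
    · exfalso
      have hv1 : (v : G ⧸ K) = 1 := by
        obtain ⟨x, hx, hxv⟩ := v.2
        rw [← hxv] at hvE ⊢
        exact (QuotientGroup.eq_one_iff x).2 (e.le hvE)
      exact hv1' (Subtype.ext hv1)
    · intro w hw
      obtain ⟨x, hx, rfl⟩ := hw
      exact (e.ge hx : π x ∈ E).2
  -- so every line is normal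
  obtain ⟨v, hv, hv1⟩ := (Subgroup.bot_or_exists_ne_one V).resolve_left hVne
  haveI : (zpowers v).Normal := by
    refine ⟨fun w hw q => ?_⟩
    obtain ⟨i, rfl⟩ := hw
    obtain ⟨g, rfl⟩ := QuotientGroup.mk'_surjective K q
    obtain ⟨c, hc⟩ := hscal g
    rw [show π g * v ^ i * (π g)⁻¹ = (π g * v * (π g)⁻¹) ^ i from (conj_zpow).symm, hc v hv]
    exact Subgroup.zpow_mem _ (Subgroup.pow_mem _ (Subgroup.mem_zpowers v) c) i
  have hzV : zpowers v ≤ V := Subgroup.zpowers_le.2 hv
  rcases h.2.2.2 ((zpowers v).comap π) inferInstance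
      ((QuotientGroup.ker_mk' K).ge.trans (MonoidHom.ker_le_comap _ _))
      (by
        intro x hx
        obtain ⟨x', hx', e⟩ := hzV hx
        have h3 : x'⁻¹ * x ∈ K := QuotientGroup.eq.1 e
        simpa using H.mul_mem hx' (h.1.le h3)) with e | e
  · exfalso
    obtain ⟨x, hx, rfl⟩ := hv
    exact hv1 ((QuotientGroup.eq_one_iff x).2 (e.le (Subgroup.mem_zpowers (π x))))
  · have hV : V = zpowers v := by
      rw [hVdef, ← e]
      exact Subgroup.map_comap_eq_self_of_surjective (QuotientGroup.mk'_surjective K) (zpowers v)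
    rw [relIndex_eq_card_map]
    show Nat.card V = p
    rw [hV, Nat.card_zpowers]
    exact orderOf_eq_prime (hVpow v hv) hv1

/-- Elements of order prime to `p` have orders prime to those in a `p`-subgroup. -/
theorem subgroup_pow_coprime {H : Subgroup G} (hH : IsPGroup p H) {g x : G} (hg : (orderOf g).Coprime p)
    (hx : x ∈ H) : (orderOf g).Coprime (orderOf x) := by
  obtain ⟨k, hk⟩ := hH.exists_card_eq
  exact (hg.pow_right k).coprime_dvd_right (hk ▸ Subgroup.orderOf_dvd_natCard H hx)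

/-- In a `p`-group whose elements of order `p` are central, commutators with an element whose `p`-th
power has order `p` have order `p`. -/
theorem commutator_pow_eq_one_of_pCentral (h2 : p ≠ 2) : ∀ (n : ℕ) (P : Subgroup G),
    Nat.card P ≤ n → IsPGroup p P → (∀ d ∈ P, d ^ p = 1 → ∀ q ∈ P, Commute d q) →
    ∀ x ∈ P, (x ^ p) ^ p = 1 → ∀ y ∈ P, ⁅x, y⁆ ^ p = 1 := by
  intro n
  induction n with
  | zero =>
    intro P hn
    have := Nat.card_pos (α := P)
    omega
  | succ n ih =>
    intro P hn hP hc x hx hxp y hy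
    set M := (zpowers x) ⊔ ⁅P, P⁆ with hM
    have hPP : ⁅P, P⁆ ≤ P := P.commutator_le_self
    have hMP : M ≤ P := sup_le (Subgroup.zpowers_le.2 hx) hPP
    by_cases hMeq : M = P
    · -- `P` is then abelian
      have hcyc : zpowers x = P := by
        refine le_antisymm (Subgroup.zpowers_le.2 hx) ?_
        rw [← Subgroup.subgroupOf_eq_top]
        refine frattini_nongenerating ?_
        rw [eq_top_iff]
        intro w _
        have hw : (w : G) ∈ zpowers x ⊔ ⁅P, P⁆ := hMeq.ge w.2
        have hle : zpowers x ⊔ ⁅P, P⁆ ≤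
            (((zpowers x).subgroupOf P) ⊔ frattini ↥P).map P.subtype := by
          rw [Subgroup.map_sup, Subgroup.map_subgroupOf_eq_of_le (Subgroup.zpowers_le.2 hx)]
          refine sup_le le_sup_left (le_trans ?_ le_sup_right)
          rw [← P.map_subtype_commutator]
          exact Subgroup.map_mono (PGroup.commutator_le_frattini hP)
        obtain ⟨w', hw', e⟩ := hle hw
        rwa [← show w' = w from Subtype.ext e]
      obtain ⟨i, rfl⟩ := hcyc.ge hy
      rw [commutatorElement_eq_one_iff_mul_comm.2 ((Commute.refl x).zpow_right i).eq, one_pow]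
    have hlt : Nat.card M < Nat.card P := by
      refine lt_of_le_of_ne (Subgroup.card_le_of_le hMP) fun e => hMeq ?_
      exact Subgroup.eq_of_le_of_card_ge hMP e.ge
    set x' := y * x * y⁻¹ with hx'
    have hx'M : x' ∈ M := by
      have : x' = ⁅y, x⁆ * x := by rw [hx', commutatorElement_def, inv_mul_cancel_right]
      rw [this]
      exact M.mul_mem (Subgroup.mem_sup_right (Subgroup.commutator_mem_commutator hy hx))
        (Subgroup.mem_sup_left (Subgroup.mem_zpowers x))
    have hxM : x ∈ M := Subgroup.mem_sup_left (Subgroup.mem_zpowers x)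
    have hx'p : x' ^ p = x ^ p := by
      rw [hx', conj_pow, ← (hc _ (P.pow_mem hx p) hxp y hy).eq, mul_inv_cancel_right]
    have hz : ∀ a ∈ M, ∀ b ∈ M, (a ^ p) ^ p = 1 → ⁅a, b⁆ ^ p = 1 := fun a ha b hb hap =>
      ih M (by omega) (hP.to_le hMP) (fun d hd hdp q hq => hc d (hMP hd) hdp q (hMP hq)) a ha hap b hb
    have hzc : ∀ a ∈ M, ∀ b ∈ M, (a ^ p) ^ p = 1 → ∀ q ∈ P, Commute ⁅a, b⁆ q := fun a ha b hb hap =>
      hc _ (hMP (M.mul_mem (M.mul_mem (M.mul_mem ha hb) (M.inv_mem ha)) (M.inv_mem hb)))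
        (hz a ha b hb hap)
    -- `x⁻¹ x'` has order dividing `p`
    have hxinv : ((x⁻¹) ^ p) ^ p = 1 := by rw [inv_pow, inv_pow, hxp, inv_one]
    set z := x'⁻¹ * (x⁻¹)⁻¹ * x' * x⁻¹ with hzdef
    have hz' : z = ⁅x'⁻¹, (x⁻¹)⁻¹⁆ := by rw [hzdef, commutatorElement_def]; group
    have hzq : ∀ q ∈ P, Commute z q := by
      rw [hz']
      exact hzc _ (M.inv_mem hx'M) _ (M.inv_mem (M.inv_mem hxM))
        (by rw [inv_pow, inv_pow, hx'p, hxp, inv_one])
    have h1 : (x⁻¹ * x') ^ p = 1 := by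
      rw [mul_pow_prime (Fact.out : p.Prime) h2 (hzq _ (P.inv_mem hx))
        (hzq _ (hMP hx'M)) (by rw [hx'p]; exact ((Commute.refl x).pow_left p).inv_right),
        hx'p, inv_pow, inv_mul_cancel]
    have h3 : ⁅x, y⁆ = x * (x⁻¹ * x')⁻¹ * x⁻¹ := by rw [hx', commutatorElement_def]; group
    rw [h3, conj_pow, inv_pow, h1, inv_one, mul_one, mul_inv_cancel]

/-- Chief factors below a normal `p`-subgroup with few central elements of order `p`. -/
theorem relIndex_le_of_pCentral (h2 : p ≠ 2) : ∀ (n : ℕ) (G : Type u) [Group G] [Finite G]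
    (P : Subgroup G) [P.Normal], Nat.card P ≤ n → IsPGroup p P →
    (∀ d ∈ P, d ^ p = 1 → ∀ q ∈ P, Commute d q) →
    Nat.card {x : G // x ∈ P ∧ x ^ p = 1} ≤ p ^ 2 →
    ∀ H K : Subgroup G, Cfsg.IsChiefFactor H K → H ≤ P → K.relIndex H ≤ p ^ 2 := by
  intro n
  induction n with
  | zero =>
    intro G _ _ P _ hn
    have := Nat.card_pos (α := P)
    omega
  | succ n ih =>
    intro G _ _ P hPn hn hP hc hcard H K hHK hHP
    let D : Subgroup G :=
      { carrier := {x | x ∈ P ∧ x ^ p = 1}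
        one_mem' := ⟨one_mem P, one_pow p⟩
        mul_mem' := fun {a b} ha hb => ⟨mul_mem ha.1 hb.1, by
          rw [(hc a ha.1 ha.2 b hb.1).mul_pow, ha.2, hb.2, one_mul]⟩
        inv_mem' := fun {a} ha => ⟨inv_mem ha.1, by rw [inv_pow, ha.2, inv_one]⟩ }
    haveI : D.Normal := ⟨fun x hx g => ⟨hPn.conj_mem x hx.1 g, by
      rw [conj_pow, hx.2, mul_one, mul_inv_cancel]⟩⟩
    haveI := hHK.2.1
    haveI := hHK.2.2.1
    rcases chief_cases hHK D with h | h
    · rw [relIndex_inf_eq hHK.1.le h]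
      refine le_trans (Nat.le_of_dvd Nat.card_pos (Subgroup.relIndex_dvd_card ..)) ?_
      exact (Subgroup.card_le_of_le inf_le_right).trans hcard
    -- `P ≠ 1`
    have hPne : P ≠ ⊥ := fun e => hHK.1.not_ge ((hHP.trans e.le).trans bot_le)
    have hDne : D ≠ ⊥ := by
      haveI := (Subgroup.nontrivial_iff_ne_bot P).2 hPne
      obtain ⟨k, hk, hk'⟩ := hP.nontrivial_iff_card.1 inferInstance
      obtain ⟨z, hz⟩ := exists_prime_orderOf_dvd_card' (G := P) p (hk' ▸ dvd_pow_self p hk.ne')
      intro e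
      have hzD : (z : G) ∈ D :=
        ⟨z.2, by rw [← hz, ← Subgroup.orderOf_coe, pow_orderOf_eq_one]⟩
      rw [e, Subgroup.mem_bot] at hzD
      rw [← Subgroup.orderOf_coe, hzD, orderOf_one] at hz
      exact (Fact.out : p.Prime).one_lt.ne hz
    set π := QuotientGroup.mk' D
    haveI : (P.map π).Normal := hPn.map _ (QuotientGroup.mk'_surjective D)
    rw [relIndex_map_eq hHK.1.le h]
    refine ih (G ⧸ D) (P.map π) ?_ (hP.map π) ?_ ?_ _ _ (isChiefFactor_map hHK h)
      (Subgroup.map_mono hHP)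
    · have h1 : Nat.card P = Nat.card (P.map π) * Nat.card D := by
        have := Subgroup.relIndex_ker π (K := P)
        rw [QuotientGroup.ker_mk'] at this
        rw [← this, Subgroup.relIndex, ← Nat.card_congr (Subgroup.subgroupOfEquivOfLe
          (show D ≤ P from fun x hx => hx.1)).toEquiv, mul_comm, Subgroup.card_mul_index]
      have h3 : 2 ≤ Nat.card D := by
        haveI := (Subgroup.nontrivial_iff_ne_bot D).2 hDne
        exact Finite.one_lt_card
      have := Nat.card_pos (α := P.map π)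
      nlinarith
    · rintro _ ⟨x, hx, rfl⟩ hxp _ ⟨y, hy, rfl⟩
      rw [← map_pow] at hxp
      have hxD : x ^ p ∈ D := (QuotientGroup.eq_one_iff _).1 hxp
      have h3 : ⁅x, y⁆ ∈ D := ⟨P.mul_mem (P.mul_mem (P.mul_mem hx hy) (P.inv_mem hx)) (P.inv_mem hy),
        commutator_pow_eq_one_of_pCentral h2 _ P le_rfl hP hc x hx hxD.2 y hy⟩
      show π x * π y = π y * π x
      rw [← commutatorElement_eq_one_iff_mul_comm, ← map_commutatorElement]
      exact (QuotientGroup.eq_one_iff _).2 h3
    · -- the `p`-th power map is injective modulo `D`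
      have hlift : ∀ w : {w : G ⧸ D // w ∈ P.map π ∧ w ^ p = 1},
          ∃ x : G, x ∈ P ∧ π x = w ∧ (x ^ p) ^ p = 1 := by
        rintro ⟨w, ⟨x, hx, rfl⟩, hw⟩
        rw [← map_pow] at hw
        exact ⟨x, hx, rfl, ((QuotientGroup.eq_one_iff _).1 hw : x ^ p ∈ D).2⟩
      choose f hfP hfπ hfp using hlift
      refine le_trans (Nat.card_le_card_of_injective
        (fun w => (⟨f w ^ p, P.pow_mem (hfP w) p, hfp w⟩ : {x : G // x ∈ P ∧ x ^ p = 1})) ?_) hcard
      intro a b e
      have e' : f a ^ p = f b ^ p := congrArg Subtype.val e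
      refine Subtype.ext ?_
      rw [← hfπ a, ← hfπ b]
      refine QuotientGroup.eq.2 ⟨P.mul_mem (P.inv_mem (hfP a)) (hfP b), ?_⟩
      have hinv : (((f a)⁻¹) ^ p) ^ p = 1 := by rw [inv_pow, inv_pow, hfp a, inv_one]
      set z := (f b)⁻¹ * ((f a)⁻¹)⁻¹ * f b * (f a)⁻¹ with hzdef
      have hzq : ∀ q ∈ P, Commute z q := by
        have hz' : z = ⁅(f b)⁻¹, ((f a)⁻¹)⁻¹⁆ := by rw [hzdef, commutatorElement_def]; group
        rw [hz']
        refine hc _ (P.mul_mem (P.mul_mem (P.mul_mem (P.inv_mem (hfP b))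
          (P.inv_mem (P.inv_mem (hfP a)))) (P.inv_mem (P.inv_mem (hfP b))))
          (P.inv_mem (P.inv_mem (P.inv_mem (hfP a))))) ?_
        refine commutator_pow_eq_one_of_pCentral h2 _ P le_rfl hP hc _ (P.inv_mem (hfP b)) ?_ _
          (P.inv_mem (P.inv_mem (hfP a)))
        rw [inv_pow, inv_pow, hfp b, inv_one]
      rw [mul_pow_prime (Fact.out : p.Prime) h2 (hzq _ (P.inv_mem (hfP a))) (hzq _ (hfP b))
        (hc _ (P.pow_mem (hfP b) p) (hfp b) _ (P.inv_mem (hfP a))), inv_pow, e', inv_mul_cancel]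

end Cfsg.Agent.RankTwo
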