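import Cfsg.Prelude.Def_Transfer
import Cfsg.Agent.Lib.PGroup.Extraspecial
import Cfsg.Agent.Lib.PSL2.PGLCoprime
import Cfsg.Agent.Lib.StrongEmb.Basic

/-!
Automisers of a Sylow subgroup `P` that is extraspecial of order `p³` and exponent `p`.

If `u ∈ P` is not central and some element centralises `u` and sends the central `c` to `c u`, then
`N(P)` has an element acting on `P / Z(P)` with eigenvalue `t⁻¹` at `u` and determinant `t`, for every
unit `t`.  Three such lines are impossible once these elements commute modulo scalars.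
-/

set_option autoImplicit false

open Matrix
open scoped MatrixGroups commutatorElement Pointwise

namespace Cfsg.Agent.RankTwo.Torus

variable {G : Type*} [Group G]

/-! ### Exponents in `ZMod p` -/

section Pw

variable {p : ℕ} [Fact p.Prime]

/-- `x` to an exponent modulo `p`. -/
def pw (x : G) (k : ZMod p) : G := x ^ k.val

theorem pw_natCast {x : G} (hx : x ^ p = 1) (n : ℕ) : pw x (n : ZMod p) = x ^ n := by
  rw [pw, ZMod.val_natCast]
  exact (pow_eq_pow_mod n hx).symm

theorem pw_zero (x : G) : pw x (0 : ZMod p) = 1 := by rw [pw, ZMod.val_zero, pow_zero]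

theorem pw_one (x : G) : pw x (1 : ZMod p) = x := by rw [pw, ZMod.val_one, pow_one]

theorem pw_add {x : G} (hx : x ^ p = 1) (i j : ZMod p) : pw x (i + j) = pw x i * pw x j := by
  rw [← ZMod.natCast_zmod_val i, ← ZMod.natCast_zmod_val j, ← Nat.cast_add, pw_natCast hx,
    pw_natCast hx, pw_natCast hx, pow_add]

theorem pw_pw {x : G} (hx : x ^ p = 1) (i j : ZMod p) : pw (pw x i) j = pw x (i * j) := by
  conv_rhs => rw [← ZMod.natCast_zmod_val i, ← ZMod.natCast_zmod_val j, ← Nat.cast_mul, pw_natCast hx]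
  rw [pw, pw, pow_mul]

theorem pw_mul_of_commute {x y : G} (h : Commute x y) (i : ZMod p) :
    pw (x * y) i = pw x i * pw y i := h.mul_pow _

theorem conj_pw (h x : G) (i : ZMod p) : h * pw x i * h⁻¹ = pw (h * x * h⁻¹) i := (conj_pow).symm

theorem commute_pw {x y : G} (h : Commute x y) (i j : ZMod p) : Commute (pw x i) (pw y j) :=
  h.pow_pow _ _

theorem pw_mem {H : Subgroup G} {x : G} (hx : x ∈ H) (i : ZMod p) : pw x i ∈ H := H.pow_mem hx _

theorem pw_eq_one {x : G} (hx : orderOf x = p) {i : ZMod p} (h : pw x i = 1) : i = 0 := by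
  rw [pw] at h
  rw [← ZMod.natCast_zmod_val i, ZMod.natCast_eq_zero_iff]
  have := orderOf_dvd_of_pow_eq_one h
  rwa [hx] at this

open Classical in
/-- The exponent of an element of `⟨c⟩`. -/
noncomputable def lg (p : ℕ) (c x : G) : ZMod p :=
  if h : x ∈ Subgroup.zpowers c then ((Subgroup.mem_zpowers_iff.1 h).choose : ZMod p) else 0

theorem lg_zpow {c : G} (hc : orderOf c = p) (n : ℤ) : lg p c (c ^ n) = n := by
  have h : c ^ n ∈ Subgroup.zpowers c := ⟨n, rfl⟩
  rw [lg, dif_pos h, ZMod.intCast_eq_intCast_iff]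
  have := zpow_eq_zpow_iff_modEq.1 (Subgroup.mem_zpowers_iff.1 h).choose_spec
  rwa [hc] at this

theorem lg_pw {c : G} (hc : orderOf c = p) (i : ZMod p) : lg p c (pw c i) = i := by
  rw [pw, ← zpow_natCast, lg_zpow hc, Int.cast_natCast, ZMod.natCast_zmod_val]

theorem pw_lg {c x : G} (hc : orderOf c = p) (hx : x ∈ Subgroup.zpowers c) :
    pw c (lg p c x) = x := by
  obtain ⟨n, rfl⟩ := hx
  show pw c (lg p c (c ^ n)) = c ^ n
  rw [lg_zpow hc, pw, ← zpow_natCast, zpow_eq_zpow_iff_modEq, hc, ← ZMod.intCast_eq_intCast_iff,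
    Int.cast_natCast, ZMod.natCast_zmod_val]

theorem lg_mul {c x y : G} (hc : orderOf c = p) (hx : x ∈ Subgroup.zpowers c)
    (hy : y ∈ Subgroup.zpowers c) : lg p c (x * y) = lg p c x + lg p c y := by
  obtain ⟨m, rfl⟩ := hx
  obtain ⟨n, rfl⟩ := hy
  show lg p c (c ^ m * c ^ n) = lg p c (c ^ m) + lg p c (c ^ n)
  rw [← _root_.zpow_add, lg_zpow hc, lg_zpow hc, lg_zpow hc, Int.cast_add]

end Pw

/-! ### The frame -/

/-- Generators and central commutator of `p_+^{1+2}`. -/
structure Frame (p : ℕ) (P : Subgroup G) (a b c : G) : Prop where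
  ha : a ∈ P
  hb : b ∈ P
  hab : ⁅a, b⁆ = c
  hc : orderOf c = p
  comm_c : ∀ x ∈ P, Commute x c
  comm_mem : ∀ x ∈ P, ∀ y ∈ P, ⁅x, y⁆ ∈ Subgroup.zpowers c
  pow_eq : ∀ x ∈ P, x ^ p = 1
  card : Nat.card P = p ^ 3

theorem exists_frame [Finite G] {p : ℕ} [Fact p.Prime] (P : Subgroup G)
    (hE : Cfsg.IsExtraspecial p P) (hcard : Nat.card P = p ^ 3) (hexp : Monoid.exponent P = p) :
    ∃ a b c : G, Frame p P a b c := by
  have hpow : ∀ x : P, x ^ p = 1 := fun x => by
    rw [← hexp]; exact Monoid.pow_exponent_eq_one x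
  obtain ⟨a, b, hab⟩ : ∃ a b : P, ⁅a, b⁆ ≠ 1 := by
    by_contra h
    push Not at h
    refine PGroup.extraspecial_not_commutative hE ?_
    rw [Subgroup.eq_top_iff']
    exact fun x => Subgroup.mem_center_iff.2 fun y => commutatorElement_eq_one_iff_mul_comm.1 (h y x)
  have hz : ∀ x y : P, ⁅x, y⁆ ∈ Subgroup.zpowers ⁅a, b⁆ := by
    intro x y
    have : Fact (Nat.card (Subgroup.center P)).Prime := ⟨hE.2.symm ▸ Fact.out⟩
    have hm := PGroup.special_commutator_mem_center hE.1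
    have := mem_zpowers_of_prime_card (G := Subgroup.center P) (p := p) hE.2
      (g := ⟨_, hm a b⟩) (g' := ⟨_, hm x y⟩) (fun e => hab (congrArg Subtype.val e))
    obtain ⟨n, hn⟩ := Subgroup.mem_zpowers_iff.1 this
    exact ⟨n, congrArg Subtype.val hn⟩
  refine ⟨a, b, (⁅a, b⁆ : P), ⟨a.2, b.2, rfl, ?_, fun x hx => ?_, fun x hx y hy => ?_, fun x hx => ?_,
    hcard⟩⟩
  · rw [Subgroup.orderOf_coe]; exact orderOf_eq_prime (hpow _) hab
  · exact congrArg Subtype.val
      (Subgroup.mem_center_iff.1 (PGroup.special_commutator_mem_center hE.1 a b) ⟨x, hx⟩)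
  · obtain ⟨n, hn⟩ := hz ⟨x, hx⟩ ⟨y, hy⟩
    exact ⟨n, congrArg Subtype.val hn⟩
  · exact congrArg Subtype.val (hpow ⟨x, hx⟩)

variable {p : ℕ} [Fact p.Prime] {P : Subgroup G} {a b c : G}

/-- The commutator form. -/
noncomputable def lc (p : ℕ) (c x y : G) : ZMod p := lg p c ⁅x, y⁆

/-- Coordinates modulo the centre. -/
noncomputable def coord (p : ℕ) (a b c x : G) : Fin 2 → ZMod p := ![lc p c x b, lc p c a x]

/-- The matrix of a conjugation on `P / Z(P)`. -/
noncomputable def mat (p : ℕ) (a b c h : G) : Matrix (Fin 2) (Fin 2) (ZMod p) :=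
  fun r s => coord p a b c (h * (![a, b] s) * h⁻¹) r

namespace Frame

variable (F : Frame p P a b c)
include F

theorem hcP : c ∈ P := F.hab ▸
  P.mul_mem (P.mul_mem (P.mul_mem F.ha F.hb) (P.inv_mem F.ha)) (P.inv_mem F.hb)

theorem hcpow : c ^ p = 1 := F.pow_eq c F.hcP

theorem lc_mul_left {x x' y : G} (hx : x ∈ P) (hx' : x' ∈ P) (hy : y ∈ P) :
    lc p c (x * x') y = lc p c x y + lc p c x' y := by
  have h : ⁅x * x', y⁆ = x * ⁅x', y⁆ * x⁻¹ * ⁅x, y⁆ := by simp only [commutatorElement_def]; group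
  obtain ⟨n, hn⟩ := F.comm_mem x' hx' y hy
  have hc' : Commute x ⁅x', y⁆ := hn ▸ (F.comm_c x hx).zpow_right n
  rw [lc, h, hc'.eq, mul_inv_cancel_right, lg_mul F.hc (F.comm_mem x' hx' y hy) (F.comm_mem x hx y hy),
    add_comm]
  rfl

theorem lc_swap {x y : G} (hx : x ∈ P) (hy : y ∈ P) : lc p c y x = -lc p c x y := by
  obtain ⟨n, hn⟩ := F.comm_mem x hx y hy
  rw [lc, lc, ← commutatorElement_inv, ← hn]
  show lg p c (c ^ n)⁻¹ = -lg p c (c ^ n)
  rw [← _root_.zpow_neg, lg_zpow F.hc, lg_zpow F.hc, Int.cast_neg]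

theorem lc_mul_right {x y y' : G} (hx : x ∈ P) (hy : y ∈ P) (hy' : y' ∈ P) :
    lc p c x (y * y') = lc p c x y + lc p c x y' := by
  rw [F.lc_swap (P.mul_mem hy hy') hx, F.lc_mul_left hy hy' hx, F.lc_swap hy hx, F.lc_swap hy' hx]
  ring

theorem lc_of_commute {x y : G} (h : Commute x y) : lc p c x y = 0 := by
  rw [lc, commutatorElement_eq_one_iff_mul_comm.2 h, ← zpow_zero c, lg_zpow F.hc, Int.cast_zero]

theorem lc_pw_left {x y : G} (hx : x ∈ P) (hy : y ∈ P) (i : ZMod p) :
    lc p c (pw x i) y = i * lc p c x y := by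
  conv_rhs => rw [← ZMod.natCast_zmod_val i]
  rw [pw]
  induction i.val with
  | zero => rw [pow_zero, F.lc_of_commute (Commute.one_left y), Nat.cast_zero, zero_mul]
  | succ n ih => rw [pow_succ, F.lc_mul_left (P.pow_mem hx n) hx hy, ih, Nat.cast_succ]; ring

theorem lc_pw_right {x y : G} (hx : x ∈ P) (hy : y ∈ P) (i : ZMod p) :
    lc p c x (pw y i) = i * lc p c x y := by
  rw [F.lc_swap (pw_mem hy i) hx, F.lc_pw_left hy hx, F.lc_swap hx hy]; ring

theorem lc_ab : lc p c a b = 1 := by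
  rw [lc, F.hab]
  conv_lhs => arg 3; rw [← pw_one (p := p) c]
  exact lg_pw F.hc 1

theorem lc_central {x z : G} (hx : x ∈ P) (hz : Commute x z) : lc p c x z = 0 ∧ lc p c z x = 0 :=
  ⟨F.lc_of_commute hz, F.lc_of_commute hz.symm⟩

theorem lc_form (i j k : ZMod p) {y : G} (hy : y ∈ P) :
    lc p c (pw a i * pw b j * pw c k) y = i * lc p c a y + j * lc p c b y := by
  rw [F.lc_mul_left (P.mul_mem (pw_mem F.ha i) (pw_mem F.hb j)) (pw_mem F.hcP k) hy,
    F.lc_mul_left (pw_mem F.ha i) (pw_mem F.hb j) hy, F.lc_pw_left F.ha hy, F.lc_pw_left F.hb hy,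
    F.lc_pw_left F.hcP hy, F.lc_of_commute (F.comm_c y hy).symm, mul_zero, add_zero]

theorem lc_form_right (i j k : ZMod p) {y : G} (hy : y ∈ P) :
    lc p c y (pw a i * pw b j * pw c k) = i * lc p c y a + j * lc p c y b := by
  rw [F.lc_swap (P.mul_mem (P.mul_mem (pw_mem F.ha i) (pw_mem F.hb j)) (pw_mem F.hcP k)) hy,
    F.lc_form i j k hy, F.lc_swap hy F.ha, F.lc_swap hy F.hb]
  ring

theorem coord_form (i j k : ZMod p) : coord p a b c (pw a i * pw b j * pw c k) = ![i, j] := by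
  rw [coord, F.lc_form i j k F.hb, F.lc_form_right i j k F.ha, F.lc_ab,
    F.lc_of_commute (Commute.refl a), F.lc_of_commute (Commute.refl b)]
  simp

theorem exists_form [Finite G] {x : G} (hx : x ∈ P) :
    ∃ i j k : ZMod p, x = pw a i * pw b j * pw c k := by
  let f : ZMod p × ZMod p × ZMod p → P := fun v =>
    ⟨pw a v.1 * pw b v.2.1 * pw c v.2.2,
      P.mul_mem (P.mul_mem (pw_mem F.ha _) (pw_mem F.hb _)) (pw_mem F.hcP _)⟩
  have hf : Function.Injective f := by
    rintro ⟨i, j, k⟩ ⟨i', j', k'⟩ e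
    have e' : pw a i * pw b j * pw c k = pw a i' * pw b j' * pw c k' := congrArg Subtype.val e
    have h := congrArg (coord p a b c) e'
    rw [F.coord_form, F.coord_form] at h
    obtain rfl : i = i' := congrFun h 0
    obtain rfl : j = j' := congrFun h 1
    have h' := congrArg (lg p c) (mul_left_cancel e')
    rw [lg_pw F.hc, lg_pw F.hc] at h'
    rw [h']
  obtain ⟨⟨i, j, k⟩, hv⟩ := (hf.bijective_of_nat_card_le (by
    simp [Nat.card_prod, Nat.card_zmod, F.card, pow_succ, mul_assoc])).2 ⟨x, hx⟩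
  exact ⟨i, j, k, (congrArg Subtype.val hv).symm⟩

theorem coord_mul {x y : G} (hx : x ∈ P) (hy : y ∈ P) :
    coord p a b c (x * y) = coord p a b c x + coord p a b c y := by
  rw [coord, coord, coord, F.lc_mul_left hx hy F.hb, F.lc_mul_right F.ha hx hy]
  simp

theorem coord_pw {x : G} (hx : x ∈ P) (i : ZMod p) :
    coord p a b c (pw x i) = i • coord p a b c x := by
  rw [coord, coord, F.lc_pw_left hx F.hb, F.lc_pw_right F.ha hx]
  simp

theorem coord_central {z : G} (hz : ∀ x ∈ P, Commute x z) : coord p a b c z = 0 := by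
  rw [coord, F.lc_of_commute (hz b F.hb).symm, F.lc_of_commute (hz a F.ha)]
  simp

theorem lc_eq [Finite G] {x y : G} (hx : x ∈ P) (hy : y ∈ P) :
    lc p c x y = coord p a b c x 0 * coord p a b c y 1 - coord p a b c x 1 * coord p a b c y 0 := by
  obtain ⟨i, j, k, rfl⟩ := F.exists_form hx
  rw [F.lc_form i j k hy, F.lc_swap hy F.hb, F.coord_form]
  simp [coord]
  ring

theorem mem_center_of_coord [Finite G] {x : G} (hx : x ∈ P) (h : coord p a b c x = 0) :
    x ∈ Subgroup.zpowers c := by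
  obtain ⟨i, j, k, rfl⟩ := F.exists_form hx
  rw [F.coord_form] at h
  have hi : i = 0 := congrFun h 0
  have hj : j = 0 := congrFun h 1
  rw [hi, hj, pw_zero, pw_zero, one_mul, one_mul]
  exact ⟨_, zpow_natCast c _⟩

/-! ### The representation of the normaliser -/

theorem conj_mem {h x : G} (hh : h ∈ Subgroup.normalizer (P : Set G)) (hx : x ∈ P) :
    h * x * h⁻¹ ∈ P := ((Subgroup.mem_normalizer_iff.1 hh) x).1 hx

theorem conj_c_central {h : G} (hh : h ∈ Subgroup.normalizer (P : Set G)) :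
    ∀ x ∈ P, Commute x (h * c * h⁻¹) := by
  intro x hx
  have hy : h⁻¹ * x * h ∈ P := by
    simpa using F.conj_mem ((Subgroup.normalizer (P : Set G)).inv_mem hh) hx
  have := (F.comm_c _ hy).map (MulAut.conj h).toMonoidHom
  simpa [mul_assoc] using this

theorem coord_conj [Finite G] {h x : G} (hh : h ∈ Subgroup.normalizer (P : Set G)) (hx : x ∈ P) :
    coord p a b c (h * x * h⁻¹) =
      coord p a b c x 0 • coord p a b c (h * a * h⁻¹) + coord p a b c x 1 • coord p a b c (h * b * h⁻¹) := by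
  obtain ⟨i, j, k, rfl⟩ := F.exists_form hx
  have e : h * (pw a i * pw b j * pw c k) * h⁻¹ =
      pw (h * a * h⁻¹) i * pw (h * b * h⁻¹) j * pw (h * c * h⁻¹) k := by
    rw [← conj_pw, ← conj_pw, ← conj_pw]; group
  have hA := F.conj_mem hh F.ha
  have hB := F.conj_mem hh F.hb
  have hC := F.conj_mem hh F.hcP
  rw [e, F.coord_mul (P.mul_mem (pw_mem hA i) (pw_mem hB j)) (pw_mem hC k),
    F.coord_mul (pw_mem hA i) (pw_mem hB j), F.coord_pw hA, F.coord_pw hB, F.coord_pw hC,
    F.coord_central (F.conj_c_central hh), smul_zero, add_zero, F.coord_form]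
  rfl

theorem mat_mulVec [Finite G] {h x : G} (hh : h ∈ Subgroup.normalizer (P : Set G)) (hx : x ∈ P) :
    mat p a b c h *ᵥ coord p a b c x = coord p a b c (h * x * h⁻¹) := by
  rw [F.coord_conj hh hx]
  ext r
  simp [mat, Matrix.mulVec, dotProduct, Fin.sum_univ_two]
  ring

/-- The representation. -/
noncomputable def rep [Finite G] : Subgroup.normalizer (P : Set G) →* Matrix (Fin 2) (Fin 2) (ZMod p) where
  toFun h := mat p a b c (h : G)
  map_one' := by
    have ha : coord p a b c a = ![1, 0] := by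
      simpa [pw_one, pw_zero] using F.coord_form 1 0 0
    have hb : coord p a b c b = ![0, 1] := by
      simpa [pw_one, pw_zero] using F.coord_form 0 1 0
    ext r s
    fin_cases r <;> fin_cases s <;> simp [mat, ha, hb]
  map_mul' g h := by
    ext r s
    have hs : (![a, b] : Fin 2 → G) s ∈ P := by fin_cases s <;> simp [F.ha, F.hb]
    have := congrFun (F.mat_mulVec g.2 (F.conj_mem h.2 hs)) r
    rw [show (g : G) * ((h : G) * ![a, b] s * (h : G)⁻¹) * (g : G)⁻¹ =
      ((g : G) * h) * ![a, b] s * ((g : G) * h)⁻¹ by group] at this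
    exact this.symm

theorem rep_det [Finite G] (h : Subgroup.normalizer (P : Set G)) :
    (F.rep h).det = lg p c ((h : G) * c * (h : G)⁻¹) := by
  have e : (h : G) * c * (h : G)⁻¹ = ⁅(h : G) * a * (h : G)⁻¹, (h : G) * b * (h : G)⁻¹⁆ := by
    rw [← F.hab]; simp only [commutatorElement_def]; group
  rw [e, ← lc, F.lc_eq (F.conj_mem h.2 F.ha) (F.conj_mem h.2 F.hb), Matrix.det_fin_two]
  show mat p a b c (h : G) 0 0 * mat p a b c (h : G) 1 1 - mat p a b c (h : G) 0 1 * mat p a b c (h : G) 1 0 = _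
  simp [mat]
  ring

theorem rep_of_mem [Finite G] (h : Subgroup.normalizer (P : Set G)) (hP : (h : G) ∈ P) :
    F.rep h = 1 := by
  have key : ∀ x ∈ P, coord p a b c ((h : G) * x * (h : G)⁻¹) = coord p a b c x := by
    intro x hx
    have h0 : coord p a b c (h : G) + coord p a b c (h : G)⁻¹ = 0 := by
      rw [← F.coord_mul hP (P.inv_mem hP), mul_inv_cancel]
      exact F.coord_central fun y _ => Commute.one_right y
    rw [F.coord_mul (P.mul_mem hP hx) (P.inv_mem hP), F.coord_mul hP hx, add_right_comm, h0, zero_add]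
  rw [← map_one F.rep]
  ext r s
  show mat p a b c (h : G) r s = mat p a b c (1 : G) r s
  have hs : (![a, b] : Fin 2 → G) s ∈ P := by fin_cases s <;> simp [F.ha, F.hb]
  simp only [mat, key _ hs, one_mul, inv_one, mul_one]

/-- The projective representation. -/
noncomputable def psiP [Finite G] :
    Subgroup.normalizer (P : Set G) →* Matrix.ProjGenLinGroup (Fin 2) (ZMod p) :=
  Matrix.ProjGenLinGroup.mk.comp F.rep.toHomUnits

end Frame

theorem not_dvd_card_range [Finite G] (Q : Sylow p G) (F : Frame p (Q : Subgroup G) a b c) :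
    ¬ p ∣ Nat.card F.psiP.range := by
  set Q' := Q.subtype (Subgroup.le_normalizer (H := (Q : Subgroup G)))
  have hle : (Q' : Subgroup _) ≤ F.psiP.ker := by
    intro h hh
    have hh' : (h : G) ∈ (Q : Subgroup G) := hh
    have : F.rep.toHomUnits h = 1 := Units.ext (F.rep_of_mem h hh')
    show Matrix.ProjGenLinGroup.mk (F.rep.toHomUnits h) = 1
    rw [this, map_one]
  intro h
  rw [← Subgroup.index_ker] at h
  exact Q'.not_dvd_index (h.trans (Subgroup.index_dvd_of_le hle))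

/-! ### The torus elements -/

/-- Realised matrices on `⟨c, u⟩`. -/
def Real (p : ℕ) (c u : G) (α β γ δ : ZMod p) : Prop :=
  ∃ g : G, g * c * g⁻¹ = pw c α * pw u γ ∧ g * u * g⁻¹ = pw c β * pw u δ

theorem Real.comp {c u : G} (hc : c ^ p = 1) (hu : u ^ p = 1) (hcu : Commute c u)
    {α β γ δ α' β' γ' δ' : ZMod p} (h : Real p c u α β γ δ) (h' : Real p c u α' β' γ' δ') :
    Real p c u (α * α' + β * γ') (α * β' + β * δ') (γ * α' + δ * γ') (γ * β' + δ * δ') := by
  obtain ⟨g, g1, g2⟩ := h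
  obtain ⟨k, k1, k2⟩ := h'
  have key : ∀ i j : ZMod p, g * (pw c i * pw u j) * g⁻¹ =
      pw c (α * i + β * j) * pw u (γ * i + δ * j) := by
    intro i j
    rw [show g * (pw c i * pw u j) * g⁻¹ = (g * pw c i * g⁻¹) * (g * pw u j * g⁻¹) by group,
      conj_pw, conj_pw, g1, g2, pw_mul_of_commute (commute_pw hcu α γ),
      pw_mul_of_commute (commute_pw hcu β δ), pw_pw hc, pw_pw hc, pw_pw hu, pw_pw hu, pw_add hc,
      pw_add hu, mul_assoc, mul_assoc, ← mul_assoc (pw u (γ * i)), ← (commute_pw hcu (β * j) (γ * i)).eq,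
      mul_assoc]
  refine ⟨g * k, ?_, ?_⟩
  · rw [show g * k * c * (g * k)⁻¹ = g * (k * c * k⁻¹) * g⁻¹ by group, k1, key]
  · rw [show g * k * u * (g * k)⁻¹ = g * (k * u * k⁻¹) * g⁻¹ by group, k2, key]

theorem Real.congr {c u : G} {α β γ δ α' β' γ' δ' : ZMod p} (h : Real p c u α β γ δ) (e1 : α = α')
    (e2 : β = β') (e3 : γ = γ') (e4 : δ = δ') : Real p c u α' β' γ' δ' := e1 ▸ e2 ▸ e3 ▸ e4 ▸ h

theorem exists_torus [Finite G] (Q : Sylow p G) (F : Frame p (Q : Subgroup G) a b c) {u : G}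
    (huP : u ∈ (Q : Subgroup G)) (hu : coord p a b c u ≠ 0)
    (hg : ∃ g : G, g * u * g⁻¹ = u ∧ g * c * g⁻¹ = c * u) (t : (ZMod p)ˣ) :
    ∃ h : Subgroup.normalizer ((Q : Subgroup G) : Set G),
      F.rep h *ᵥ coord p a b c u = ((t⁻¹ : (ZMod p)ˣ) : ZMod p) • coord p a b c u ∧
      (F.rep h).det = (t : ZMod p) := by
  have hc := F.hcpow
  have hu' := F.pow_eq u huP
  have hcu : Commute c u := (F.comm_c u huP).symm
  have hcP := F.hcP
  -- the lower transvection
  obtain ⟨y, hy, hyu⟩ : ∃ y ∈ (Q : Subgroup G), y * u * y⁻¹ = c * u := by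
    obtain ⟨r, hr⟩ : ∃ r, coord p a b c u r ≠ 0 := by
      by_contra h; push Not at h; exact hu (funext h)
    obtain ⟨x, hx, hxu⟩ : ∃ x ∈ (Q : Subgroup G), lc p c x u ≠ 0 := by
      fin_cases r
      · refine ⟨b, F.hb, ?_⟩
        rw [F.lc_swap huP F.hb, neg_ne_zero]; simpa [coord] using hr
      · exact ⟨a, F.ha, by simpa [coord] using hr⟩
    refine ⟨pw x (lc p c x u)⁻¹, pw_mem hx _, ?_⟩
    have h1 : lc p c (pw x (lc p c x u)⁻¹) u = 1 := by
      rw [F.lc_pw_left hx huP, inv_mul_cancel₀ hxu]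
    have h2 := pw_lg F.hc (F.comm_mem _ (pw_mem hx (lc p c x u)⁻¹) u huP)
    rw [lc] at h1
    rw [h1, pw_one, commutatorElement_def] at h2
    conv_rhs => rw [h2]
    group
  have e0 : Real p c u 1 0 0 1 := ⟨1, by simp [pw_one, pw_zero], by simp [pw_one, pw_zero]⟩
  have e1 : Real p c u 1 1 0 1 := ⟨y, by
    rw [(F.comm_c y hy).eq, mul_inv_cancel_right, pw_one, pw_zero, mul_one], by rw [hyu, pw_one, pw_one]⟩
  have f1 : Real p c u 1 0 1 1 := by
    obtain ⟨g, g1, g2⟩ := hg
    exact ⟨g, by rw [g2, pw_one, pw_one], by rw [g1, pw_one, pw_zero, one_mul]⟩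
  have eN : ∀ β : ZMod p, Real p c u 1 β 0 1 := by
    intro β
    rw [← ZMod.natCast_zmod_val β]
    induction β.val with
    | zero => exact e0.congr rfl (by simp) rfl rfl
    | succ n ih => exact (ih.comp hc hu' hcu e1).congr (by ring) (by push_cast; ring) (by ring) (by ring)
  have fN : ∀ γ : ZMod p, Real p c u 1 0 γ 1 := by
    intro γ
    rw [← ZMod.natCast_zmod_val γ]
    induction γ.val with
    | zero => exact e0.congr rfl rfl (by simp) rfl
    | succ n ih => exact (ih.comp hc hu' hcu f1).congr (by ring) (by ring) (by push_cast; ring) (by ring)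
  have ht := t.ne_zero
  have w : ∀ s : ZMod p, s ≠ 0 → Real p c u 0 s (-s⁻¹) 0 := fun s hs =>
    (((eN s).comp hc hu' hcu (fN (-s⁻¹))).comp hc hu' hcu (eN s)).congr
      (by field_simp; ring) (by field_simp; ring) (by ring) (by field_simp; ring)
  obtain ⟨g, g1, g2⟩ := ((w t ht).comp hc hu' hcu (w (-1) (neg_ne_zero.2 one_ne_zero))).congr
    (α' := (t : ZMod p)) (β' := 0) (γ' := 0) (δ' := (t : ZMod p)⁻¹)
    (by rw [inv_neg, inv_one]; ring) (by ring) (by ring) (by ring)
  rw [pw_zero, mul_one] at g1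
  rw [pw_zero, one_mul] at g2
  -- Frattini inside the stabiliser of the flag
  let K : Subgroup G :=
    { carrier := {k | k * c = c * k ∧ ∃ n : ZMod p, k * u * k⁻¹ = u * pw c n}
      one_mem' := ⟨by simp, 0, by simp [pw_zero]⟩
      mul_mem' := by
        rintro k l ⟨hk, n, hn⟩ ⟨hl, m, hm⟩
        refine ⟨(Commute.mul_left hk hl : Commute (k * l) c), n + m, ?_⟩
        rw [show k * l * u * (k * l)⁻¹ = k * (l * u * l⁻¹) * k⁻¹ by group, hm,
          show k * (u * pw c m) * k⁻¹ = (k * u * k⁻¹) * (k * pw c m * k⁻¹) by group, hn, conj_pw,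
          hk, mul_inv_cancel_right, mul_assoc, pw_add hc]
      inv_mem' := by
        rintro k ⟨hk, n, hn⟩
        refine ⟨(Commute.inv_left hk : Commute k⁻¹ c), -n, ?_⟩
        have h1 : k⁻¹ * pw c n * k = pw c n := by
          rw [pw, mul_assoc, ← ((show Commute k c from hk).pow_right n.val).eq, inv_mul_cancel_left]
        have h2 : u = k⁻¹ * u * k * pw c n := by
          conv_lhs => rw [show u = k⁻¹ * (k * u * k⁻¹) * k by group, hn,
            show k⁻¹ * (u * pw c n) * k = k⁻¹ * u * k * (k⁻¹ * pw c n * k) by group, h1]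
        rw [inv_inv]
        conv_rhs => rw [h2]
        rw [mul_assoc (k⁻¹ * u * k), ← pw_add hc, add_neg_cancel, pw_zero, mul_one] }
  have hQK : (Q : Subgroup G) ≤ K := by
    intro x hx
    refine ⟨(F.comm_c x hx).eq, lc p c x u, ?_⟩
    rw [lc, pw_lg F.hc (F.comm_mem x hx u huP)]
    have hmem := F.comm_mem x hx u huP
    obtain ⟨n, hn⟩ := hmem
    have hcn : Commute u ⁅x, u⁆ := hn ▸ (F.comm_c u huP).zpow_right n
    rw [hcn.eq, commutatorElement_def]
    group
  have hgK : ((g • Q : Sylow p G) : Subgroup G) ≤ K := by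
    intro z hz
    rw [StrongEmb.mem_smul_sylow_iff] at hz
    set y' := g⁻¹ * z * g with hy'
    have hz' : z = g * y' * g⁻¹ := by rw [hy']; group
    have hct : Commute y' (pw c (t : ZMod p)) := (F.comm_c y' hz).pow_right _
    have hzc : Commute z (pw c (t : ZMod p)) := by
      have := (F.comm_c y' hz).map (MulAut.conj g).toMonoidHom
      simp only [MulEquiv.coe_toMonoidHom, MulAut.conj_apply] at this
      rwa [← hz', g1] at this
    have hzc' : Commute z c := by
      have := hzc.pow_right ((t⁻¹ : (ZMod p)ˣ) : ZMod p).val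
      rwa [show (pw c (t : ZMod p)) ^ ((t⁻¹ : (ZMod p)ˣ) : ZMod p).val = c by
        rw [← pw, pw_pw hc, Units.mul_inv, pw_one]] at this
    refine ⟨hzc'.eq, (t : ZMod p) * lc p c y' (pw u (t : ZMod p)), ?_⟩
    have hu2 : g * pw u (t : ZMod p) * g⁻¹ = u := by
      rw [conj_pw, g2, pw_pw hu', inv_mul_cancel₀ ht, pw_one]
    have hy2 : y' * pw u (t : ZMod p) * y'⁻¹ =
        pw u (t : ZMod p) * pw c (lc p c y' (pw u (t : ZMod p))) := by
      rw [lc, pw_lg F.hc (F.comm_mem _ hz _ (pw_mem huP _))]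
      obtain ⟨n, hn⟩ := F.comm_mem _ hz _ (pw_mem huP (t : ZMod p))
      have hcn : Commute (pw u (t : ZMod p)) ⁅y', pw u (t : ZMod p)⁆ :=
        hn ▸ (F.comm_c _ (pw_mem huP _)).zpow_right n
      rw [hcn.eq, commutatorElement_def]
      group
    rw [← pw_pw hc, ← g1, ← conj_pw]
    calc z * u * z⁻¹ = g * (y' * (g⁻¹ * u * g) * y'⁻¹) * g⁻¹ := by rw [hz']; group
      _ = g * (y' * pw u (t : ZMod p) * y'⁻¹) * g⁻¹ := by
        rw [show g⁻¹ * u * g = pw u (t : ZMod p) by
          conv_lhs => rw [← hu2]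
          group]
      _ = g * pw u (t : ZMod p) * g⁻¹ *
          (g * pw c (lc p c y' (pw u (t : ZMod p))) * g⁻¹) := by rw [hy2]; group
      _ = _ := by rw [hu2]
  obtain ⟨k, hk⟩ := MulAction.exists_smul_eq K ((g • Q).subtype hgK) (Q.subtype hQK)
  have hN : (k : G) * g ∈ Subgroup.normalizer ((Q : Subgroup G) : Set G) := by
    refine Sylow.smul_eq_iff_mem_normalizer.1 ?_
    rw [mul_smul]
    rw [Sylow.smul_subtype] at hk
    exact Sylow.subtype_injective hk
  obtain ⟨hkc, n, hn⟩ := k.2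
  refine ⟨⟨_, hN⟩, ?_, ?_⟩
  · show mat p a b c ((k : G) * g) *ᵥ _ = _
    rw [F.mat_mulVec hN huP]
    have e : (k : G) * g * u * ((k : G) * g)⁻¹ =
        pw u ((t : ZMod p)⁻¹) * pw c (n * (t : ZMod p)⁻¹) := by
      rw [show (k : G) * g * u * ((k : G) * g)⁻¹ = k * (g * u * g⁻¹) * (k : G)⁻¹ by group, g2, conj_pw, hn,
        pw_mul_of_commute (show Commute u (pw c n) from hcu.symm.pow_right _), pw_pw hc]
    rw [e, F.coord_mul (pw_mem huP _) (pw_mem hcP _), F.coord_pw huP, F.coord_pw hcP,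
      F.coord_central F.comm_c, smul_zero, add_zero, Units.val_inv_eq_inv_val]
  · rw [F.rep_det]
    show lg p c ((k : G) * g * c * ((k : G) * g)⁻¹) = _
    rw [show (k : G) * g * c * ((k : G) * g)⁻¹ = k * (g * c * g⁻¹) * (k : G)⁻¹ by group, g1, conj_pw, hkc,
      mul_inv_cancel_right, lg_pw F.hc]

/-! ### Linear algebra -/

section Linear

variable {K : Type*} [Field K]

/-- The determinant of two vectors. -/
def cross (v w : Fin 2 → K) : K := v 0 * w 1 - v 1 * w 0

theorem scalar_of_two {A : Matrix (Fin 2) (Fin 2) K} {v w : Fin 2 → K} {l : K} (hvw : cross v w ≠ 0)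
    (hv : A *ᵥ v = l • v) (hw : A *ᵥ w = l • w) : A = Matrix.scalar (Fin 2) l := by
  have a0 := congrFun hv 0
  have a1 := congrFun hv 1
  have b0 := congrFun hw 0
  have b1 := congrFun hw 1
  simp [Matrix.mulVec, dotProduct, Fin.sum_univ_two] at a0 a1 b0 b1
  unfold cross at hvw
  have z : ∀ x : K, x * (v 0 * w 1 - v 1 * w 0) = 0 → x = 0 := fun x h =>
    (mul_eq_zero.1 h).resolve_right hvw
  have h00 := z (A 0 0 - l) (by linear_combination w 1 * a0 - v 1 * b0)
  have h01 := z (A 0 1) (by linear_combination v 0 * b0 - w 0 * a0)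
  have h10 := z (A 1 0) (by linear_combination w 1 * a1 - v 1 * b1)
  have h11 := z (A 1 1 - l) (by linear_combination v 0 * b1 - w 0 * a1)
  ext i j
  fin_cases i <;> fin_cases j <;> simp [h01, h10, sub_eq_zero.1 h00, sub_eq_zero.1 h11]

theorem scalar_of_three {A : Matrix (Fin 2) (Fin 2) K} {v : Fin 3 → Fin 2 → K}
    (hv : ∀ i j, i ≠ j → cross (v i) (v j) ≠ 0) (h : ∀ i, ∃ l : K, A *ᵥ v i = l • v i) :
    ∃ l : K, A = Matrix.scalar (Fin 2) l := by
  choose l hl using h
  refine ⟨l 0, scalar_of_two (hv 0 1 (by decide)) (hl 0) ?_⟩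
  suffices e : l 1 = l 0 by rw [hl 1, e]
  have a0 := congrFun (hl 0) 0
  have a1 := congrFun (hl 0) 1
  have b0 := congrFun (hl 1) 0
  have b1 := congrFun (hl 1) 1
  have d0 := congrFun (hl 2) 0
  have d1 := congrFun (hl 2) 1
  simp [Matrix.mulVec, dotProduct, Fin.sum_univ_two] at a0 a1 b0 b1 d0 d1
  have n1 := hv 1 2 (by decide)
  have n2 := hv 2 0 (by decide)
  unfold cross at n1 n2
  have hz : (l 1 - l 0) * ((v 2 0 * v 0 1 - v 2 1 * v 0 0) * (v 1 0 * v 2 1 - v 1 1 * v 2 0)) = 0 := by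
    linear_combination
      -(v 1 0 * v 2 1 - v 1 1 * v 2 0) * (v 2 1 * a0 - v 2 0 * a1)
      - (v 2 0 * v 0 1 - v 2 1 * v 0 0) * (v 2 1 * b0 - v 2 0 * b1)
      - (v 0 0 * v 1 1 - v 0 1 * v 1 0) * (v 2 1 * d0 - v 2 0 * d1)
  exact sub_eq_zero.1 ((mul_eq_zero.1 hz).resolve_right (mul_ne_zero n2 n1))

theorem eigen_of_cross {v w : Fin 2 → K} (hv : v ≠ 0) (h : cross v w = 0) : ∃ l : K, w = l • v := by
  unfold cross at h
  by_cases h0 : v 0 = 0
  · have h1 : v 1 ≠ 0 := fun h1 => hv (funext (by simp [Fin.forall_fin_two, h0, h1]))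
    refine ⟨w 1 / v 1, funext ?_⟩
    rw [h0, zero_mul, zero_sub, neg_eq_zero, mul_eq_zero, or_iff_right h1] at h
    simp [Fin.forall_fin_two, h0, h1, h]
  · refine ⟨w 0 / v 0, funext ?_⟩
    simp only [Fin.forall_fin_two, Pi.smul_apply, smul_eq_mul]
    refine ⟨by field_simp, ?_⟩
    field_simp
    linear_combination h

/-- If `B` commutes with `A` up to a scalar, its square fixes the eigenline of `A`. -/
theorem sq_eigen {A B : Matrix (Fin 2) (Fin 2) K} {μ s : K} {v : Fin 2 → K} (hv : v ≠ 0)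
    (hA : A *ᵥ v = s • v) (hs : A.det ≠ s ^ 2) (hAd : A.det ≠ 0) (hBd : B.det ≠ 0)
    (hc : A * B = μ • (B * A)) : ∃ l : K, (B * B) *ᵥ v = l • v := by
  have hμ : μ ^ 2 = 1 := by
    have := congrArg Matrix.det hc
    rw [Matrix.det_smul, Fintype.card_fin, Matrix.det_mul, Matrix.det_mul] at this
    exact mul_right_cancel₀ (mul_ne_zero hBd hAd) (by linear_combination -this)
  have h1 : A *ᵥ (B *ᵥ v) = (μ * s) • (B *ᵥ v) := by
    rw [Matrix.mulVec_mulVec, hc, Matrix.smul_mulVec, ← Matrix.mulVec_mulVec, hA, Matrix.mulVec_smul,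
      smul_smul]
  have h2 : A *ᵥ ((B * B) *ᵥ v) = s • ((B * B) *ᵥ v) := by
    rw [← Matrix.mulVec_mulVec, Matrix.mulVec_mulVec, hc, Matrix.smul_mulVec, ← Matrix.mulVec_mulVec, h1,
      Matrix.mulVec_smul, smul_smul, ← mul_assoc, ← pow_two, hμ, one_mul]
  refine eigen_of_cross hv ?_
  by_contra hx
  have := congrArg Matrix.det (scalar_of_two hx hA h2)
  rw [Matrix.scalar_apply, Matrix.det_diagonal, Fin.prod_univ_two, ← pow_two] at this
  exact hs this

end Linear

theorem orderOf_psiP [Finite G] (Q : Sylow p G) (F : Frame p (Q : Subgroup G) a b c)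
    {h : Subgroup.normalizer ((Q : Subgroup G) : Set G)} {v : Fin 2 → ZMod p} (hv : v ≠ 0)
    {t : (ZMod p)ˣ} (he : F.rep h *ᵥ v = ((t⁻¹ : (ZMod p)ˣ) : ZMod p) • v)
    (hd : (F.rep h).det = (t : ZMod p)) : orderOf t ∣ 3 * orderOf (F.psiP h) := by
  set m := orderOf (F.psiP h)
  have hm : Matrix.ProjGenLinGroup.mk (F.rep.toHomUnits (h ^ m)) = 1 := by
    show F.psiP (h ^ m) = 1
    rw [map_pow, pow_orderOf_eq_one]
  rw [Matrix.ProjGenLinGroup.mk_eq_one, Matrix.GeneralLinearGroup.center_eq_range_scalar] at hm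
  obtain ⟨r, hr⟩ := hm
  have hr' : F.rep h ^ m = Matrix.scalar (Fin 2) (r : ZMod p) := by
    have := congrArg Units.val hr
    rw [← map_pow]
    exact this.symm
  have hpow : ∀ n : ℕ, F.rep h ^ n *ᵥ v = ((t⁻¹ : (ZMod p)ˣ) : ZMod p) ^ n • v := by
    intro n
    induction n with
    | zero => rw [pow_zero, pow_zero, Matrix.one_mulVec, one_smul]
    | succ n ih => rw [pow_succ', ← Matrix.mulVec_mulVec, ih, Matrix.mulVec_smul, he, smul_smul, pow_succ]
  have hrs : (r : ZMod p) = ((t⁻¹ ^ m : (ZMod p)ˣ) : ZMod p) := by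
    have := hpow m
    rw [hr', Matrix.scalar_apply] at this
    obtain ⟨i, hi⟩ : ∃ i, v i ≠ 0 := by by_contra h; push Not at h; exact hv (funext h)
    have hi' := congrFun this i
    rw [Matrix.mulVec_diagonal, Pi.smul_apply, smul_eq_mul] at hi'
    rw [mul_right_cancel₀ hi hi', Units.val_pow_eq_pow_val]
  have hdet := congrArg Matrix.det hr'
  rw [Matrix.det_pow, hd, Matrix.scalar_apply, Matrix.det_diagonal, Fin.prod_univ_two, hrs] at hdet
  have hu : t ^ m = t⁻¹ ^ m * t⁻¹ ^ m := Units.ext (by push_cast; exact_mod_cast hdet)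
  refine orderOf_dvd_of_pow_eq_one ?_
  rw [inv_pow, ← _root_.mul_inv_rev, eq_inv_iff_mul_eq_one] at hu
  rw [pow_mul', pow_three, hu]

/-- Three lines with commuting torus elements are impossible. -/
theorem false_of_three [Finite G] (Q : Sylow p G) (F : Frame p (Q : Subgroup G) a b c)
    (v : Fin 3 → Fin 2 → ZMod p) (hv : ∀ i j, i ≠ j → cross (v i) (v j) ≠ 0)
    (h : Fin 3 → Subgroup.normalizer ((Q : Subgroup G) : Set G)) (t : (ZMod p)ˣ) (ht : t ^ 3 ≠ 1)
    (he : ∀ i, F.rep (h i) *ᵥ v i = ((t⁻¹ : (ZMod p)ˣ) : ZMod p) • v i)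
    (hd : ∀ i, (F.rep (h i)).det = (t : ZMod p)) (ho : 3 ≤ orderOf (F.psiP (h 0)))
    (hc : ∀ i j, Commute (F.psiP (h i)) (F.psiP (h j))) : False := by
  have hv0 : ∀ i, v i ≠ 0 := by
    intro i e
    obtain ⟨j, hj⟩ : ∃ j : Fin 3, i ≠ j := ⟨i + 1, by clear e; revert i; decide⟩
    exact hv i j hj (by simp [cross, e])
  have key : ∀ i, ∃ l : ZMod p, (F.rep (h 0) * F.rep (h 0)) *ᵥ v i = l • v i := by
    intro i
    obtain ⟨r, hr⟩ := Matrix.ProjGenLinGroup.mk_eq_mk_iff.1
      (show Matrix.ProjGenLinGroup.mk (F.rep.toHomUnits (h 0 * h i)) =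
          Matrix.ProjGenLinGroup.mk (F.rep.toHomUnits (h i * h 0)) by
        show F.psiP (h 0 * h i) = F.psiP (h i * h 0)
        rw [map_mul, map_mul]; exact (hc 0 i).eq)
    have hr' : F.rep (h i) * F.rep (h 0) = (r : ZMod p) • (F.rep (h 0) * F.rep (h i)) := by
      have := congrArg Units.val hr
      simp only [Units.val_mul, MonoidHom.coe_toHomUnits, map_mul] at this
      rw [← this]
      show _ * Matrix.scalar (Fin 2) (r : ZMod p) = _
      rw [Matrix.scalar_apply, ← Matrix.smul_one_eq_diagonal, mul_smul_comm, mul_one]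
    refine sq_eigen (hv0 i) (he i) ?_ (by rw [hd]; exact t.ne_zero) (by rw [hd]; exact t.ne_zero) hr'
    rw [hd]
    intro e
    apply ht
    have e' : t = t⁻¹ ^ 2 := Units.ext (by rw [Units.val_pow_eq_pow_val]; exact e)
    rw [inv_pow, eq_inv_iff_mul_eq_one, ← pow_succ'] at e'
    exact e'
  obtain ⟨l, hl⟩ := scalar_of_three hv key
  have hl0 : l ≠ 0 := by
    intro e
    have := congrArg Matrix.det hl
    rw [Matrix.det_mul, hd, e, map_zero, Matrix.det_zero] at this
    exact mul_ne_zero t.ne_zero t.ne_zero this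
  have h1 : F.psiP (h 0) ^ 2 = 1 := by
    rw [← map_pow]
    show Matrix.ProjGenLinGroup.mk (F.rep.toHomUnits (h 0 ^ 2)) = 1
    rw [Matrix.ProjGenLinGroup.mk_eq_one, Matrix.GeneralLinearGroup.center_eq_range_scalar]
    refine ⟨Units.mk0 l hl0, Units.ext ?_⟩
    show Matrix.scalar (Fin 2) l = F.rep (h 0 ^ 2)
    rw [map_pow, pow_two, hl]
  have := Nat.le_of_dvd two_pos (orderOf_dvd_of_pow_eq_one h1)
  omega

/-- **The bound.** Seven (resp. three) lines with transvections force small `p`. -/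
theorem false_of_lines [Finite G] (Q : Sylow p G) (F : Frame p (Q : Subgroup G) a b c) {n : ℕ}
    (u : Fin n → G) (huP : ∀ i, u i ∈ (Q : Subgroup G))
    (hu : ∀ i j, i ≠ j → cross (coord p a b c (u i)) (coord p a b c (u j)) ≠ 0)
    (hg : ∀ i, ∃ g : G, g * u i * g⁻¹ = u i ∧ g * c * g⁻¹ = c * u i)
    (hn : (16 ≤ p - 1 ∨ p = 11) ∧ 3 ≤ n ∨ p = 13 ∧ 7 ≤ n) : False := by
  classical
  obtain ⟨t, ht⟩ := IsCyclic.exists_generator (α := (ZMod p)ˣ)
  have hot : orderOf t = p - 1 := by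
    rw [orderOf_eq_card_of_forall_mem_zpowers ht, Nat.card_eq_fintype_card, ZMod.card_units]
  have h10 : 10 ≤ p - 1 := by omega
  have ht3 : t ^ 3 ≠ 1 := pow_ne_one_of_lt_orderOf (by norm_num) (by omega)
  have hne : ∀ i, coord p a b c (u i) ≠ 0 := by
    intro i e
    obtain ⟨j, hj⟩ : ∃ j, i ≠ j := by
      rcases eq_or_ne i ⟨0, by omega⟩ with rfl | h'
      · exact ⟨⟨1, by omega⟩, by simp⟩
      · exact ⟨_, h'⟩
    exact hu i j hj (by simp [cross, e])
  choose h he hd using fun i => exists_torus Q F (huP i) (hne i) (hg i) t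
  have hord : ∀ i, p - 1 ∣ 3 * orderOf (F.psiP (h i)) := fun i =>
    hot ▸ orderOf_psiP Q F (hne i) (he i) (hd i)
  obtain ⟨f, hf⟩ := PSL2.CoprimeSub.exists_class_pgl p F.psiP (not_dvd_card_range Q F)
  have hpos : ∀ i, 0 < orderOf (F.psiP (h i)) := fun i => orderOf_pos _
  obtain ⟨e, heinj, hcomm⟩ : ∃ e : Fin 3 → Fin n, Function.Injective e ∧
      ∀ i j, Commute (F.psiP (h (e i))) (F.psiP (h (e j))) := by
    rcases hn with ⟨hp, hn3⟩ | ⟨hp, hn7⟩
    · have h6 : ∀ i, 6 ≤ orderOf (F.psiP (h i)) := by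
        intro i
        have hle := Nat.le_of_dvd (by have := hpos i; omega) (hord i)
        rcases hp with hp | hp
        · omega
        · have : 10 ∣ orderOf (F.psiP (h i)) :=
            (Nat.Coprime.dvd_of_dvd_mul_left (show Nat.Coprime 10 3 by decide)
              (by have := hord i; simp only [show p - 1 = 10 by omega] at this; exact this))
          have := Nat.le_of_dvd (hpos i) this
          omega
      refine ⟨Fin.castLE hn3, Fin.castLE_injective _, fun i j => ?_⟩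
      have := h6 (Fin.castLE hn3 i)
      have := h6 (Fin.castLE hn3 j)
      exact hf _ _ (by omega) (by omega) (Or.inl ⟨h6 _, h6 _⟩)
    · have h4 : ∀ i, 4 ∣ orderOf (F.psiP (h i)) := fun i => by
        have := hord i
        simp only [show p - 1 = 12 by omega] at this
        omega
      obtain ⟨y, hy⟩ := Fintype.exists_lt_card_fiber_of_mul_lt_card (fun i => f (h i)) (n := 2)
        (by simp; omega)
      obtain ⟨x, z, w, hx, hz, hw, hxz, hxw, hzw⟩ := Finset.two_lt_card_iff.1 hy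
      simp only [Finset.mem_filter, Finset.mem_univ, true_and] at hx hz hw
      refine ⟨![x, z, w], ?_, fun i j => ?_⟩
      · intro i j; fin_cases i <;> fin_cases j <;> simp [hxz, hxw, hzw, hxz.symm, hxw.symm, hzw.symm]
      · have hall : ∀ k, f (h (![x, z, w] k)) = y := by intro k; fin_cases k <;> assumption
        have := Nat.le_of_dvd (hpos _) (h4 (![x, z, w] i))
        have := Nat.le_of_dvd (hpos _) (h4 (![x, z, w] j))
        exact hf _ _ (by omega) (by omega) (Or.inr ⟨h4 _, h4 _, (hall i).trans (hall j).symm⟩)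
  refine false_of_three Q F (fun i => coord p a b c (u (e i)))
    (fun i j hij => hu _ _ (heinj.ne hij)) (fun i => h (e i)) t ht3 (fun i => he _) (fun i => hd _) ?_ hcomm
  have := Nat.le_of_dvd (by have := hpos (e 0); omega) (hord (e 0))
  omega

end Cfsg.Agent.RankTwo.Torus
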